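import Mathlib
import Cfsg.Agent.S2403

/-!
# (SLEX) for S2414 (helper40): the generators of `SL_{n+1}` exist
-/

set_option autoImplicit false

namespace Cfsg.Agent.Helper40.OPlus

/-- the monomial matrix of S2403 is a diagonal matrix times the matrix of the rotation -/
theorem SLEX_wMat_eq (K : Type*) [Field K] (n : ℕ) :
    Cfsg.Agent.S2403.wMat K n =
      Matrix.diagonal (fun i : Fin (n + 1) => if i.val = n then ((-1 : K)) ^ n else 1) *
        (finRotate (n + 1)).permMatrix K := by
  ext i j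
  rw [Matrix.diagonal_mul]
  simp only [Cfsg.Agent.S2403.wMat, Matrix.of_apply, Equiv.Perm.permMatrix, PEquiv.toMatrix_apply,
    Equiv.toPEquiv_apply, Option.mem_def, Option.some.injEq]
  have hi := i.isLt
  have hj := j.isLt
  by_cases hin : i.val = n
  · have hil : i = Fin.last n := Fin.ext hin
    have e1 : finRotate (n + 1) i = 0 := by rw [hil]; exact finRotate_last
    rw [e1, if_neg (by omega), if_pos hin]
    by_cases hj0 : j.val = 0
    · have : (0 : Fin (n + 1)) = j := Fin.ext (by simp [hj0])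
      rw [if_pos ⟨hin, hj0⟩, if_pos this, mul_one]
    · have : ¬ (0 : Fin (n + 1)) = j := fun h => hj0 (by rw [← h]; rfl)
      rw [if_neg (fun h => hj0 h.2), if_neg this, mul_zero]
  · have hlt : i.val < n := by omega
    have e1 : (finRotate (n + 1) i).val = i.val + 1 := by
      have : i = ⟨i.val, by omega⟩ := rfl
      rw [this, finRotate_of_lt hlt]
    rw [if_neg hin, one_mul]
    by_cases hji : j.val = i.val + 1
    · have : finRotate (n + 1) i = j := Fin.ext (by rw [e1, hji])
      rw [if_pos hji, if_pos this]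
    · have : ¬ finRotate (n + 1) i = j := fun h => hji (by rw [← h, e1])
      rw [if_neg hji, if_neg (fun h => hin h.1), if_neg this]

theorem SLEX_det_wMat (K : Type*) [Field K] (n : ℕ) : (Cfsg.Agent.S2403.wMat K n).det = 1 := by
  rw [SLEX_wMat_eq, Matrix.det_mul, Matrix.det_diagonal, Matrix.det_permutation, sign_finRotate]
  have e1 : (∏ i : Fin (n + 1), (if i.val = n then ((-1 : K)) ^ n else 1)) = (-1 : K) ^ n := by
    rw [Finset.prod_eq_single (Fin.last n)]
    · simp
    · intro b _ hb
      have : b.val ≠ n := fun h => hb (Fin.ext h)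
      rw [if_neg this]
    · intro h
      exact absurd (Finset.mem_univ _) h
  rw [e1]
  push_cast
  rw [← mul_pow]
  simp

theorem exists_w (K : Type*) [Field K] (n : ℕ) :
    ∃ w : Matrix.SpecialLinearGroup (Fin (n + 1)) K,
      (w : Matrix (Fin (n + 1)) (Fin (n + 1)) K) = Cfsg.Agent.S2403.wMat K n :=
  ⟨⟨Cfsg.Agent.S2403.wMat K n, SLEX_det_wMat K n⟩, rfl⟩

theorem exists_h {K : Type*} [Field K] (k : Kˣ) (n : ℕ) (hn : 1 ≤ n) :
    ∃ h : Matrix.SpecialLinearGroup (Fin (n + 1)) K,
      (h : Matrix (Fin (n + 1)) (Fin (n + 1)) K) = Matrix.diagonal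
        (fun i => if i.val = 0 then (k : K) else if i.val = 1 then ((k⁻¹ : Kˣ) : K) else 1) := by
  obtain ⟨m, rfl⟩ : ∃ m, n = m + 1 := ⟨n - 1, by omega⟩
  refine ⟨⟨Matrix.diagonal
        (fun i => if i.val = 0 then (k : K) else if i.val = 1 then ((k⁻¹ : Kˣ) : K) else 1), ?_⟩, rfl⟩
  rw [Matrix.det_diagonal, Fin.prod_univ_succ, Fin.prod_univ_succ]
  have e : ∀ i : Fin m, (if (i.succ.succ : Fin (m + 1 + 1)).val = 0 then (k : K)
      else if (i.succ.succ : Fin (m + 1 + 1)).val = 1 then ((k⁻¹ : Kˣ) : K) else 1) = 1 := by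
    intro i
    rw [if_neg (by simp), if_neg (by simp)]
  rw [Finset.prod_congr rfl (fun i _ => e i)]
  simp

end Cfsg.Agent.Helper40.OPlus
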