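import Cfsg.Agent.Helper40.OPlus.XLin

/-!
# The three elements `y` used for the second generator of `Ω⁺_{2m}(q)` (helper40, for S2414)
-/

set_option autoImplicit false

namespace Cfsg.Agent.Helper40.OPlus

open Matrix QuadraticMap Cfsg.Agent.Helper44 Cfsg.Agent.Helper45.OmegaParity Cfsg.Agent.Helper5

variable {F : Type*} [Field F] {m : ℕ}

/-- the unipotent choice (used for `|F| > 3`) -/
noncomputable def yU (p r : Fin m) : OG m F := xmm p r 1 * xpp p r 1 * xmm p r (-1)

/-- the monomial choice (used for `|F| = 3`) -/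
noncomputable def yN (p r : Fin m) : OG m F := xpp p r 1 * xmm p r 1 * xpp p r 1

/-- the choice of order three (used for `|F| = 2`) -/
noncomputable def yT (p r : Fin m) : OG m F := xpp p r 1 * xmm p r 1

/-- an isometry fixing `e_p, e_r` commutes with `xpp p r t` -/
theorem commute_xpp (g : OG m F) (p r : Fin m)
    (h1 : lin (plusForm m F) g (eV p) = eV p) (h2 : lin (plusForm m F) g (eV r) = eV r) (t : F) :
    Commute g (xpp p r t) := by
  have h := conj_xpp g p r t
  rw [h1, h2] at h
  show g * xpp p r t = xpp p r t * g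
  rw [mul_inv_eq_iff_eq_mul] at h
  exact h

/-- an isometry fixing `f_p, f_r` commutes with `xmm p r t` -/
theorem commute_xmm (g : OG m F) (p r : Fin m)
    (h1 : lin (plusForm m F) g (fV p) = fV p) (h2 : lin (plusForm m F) g (fV r) = fV r) (t : F) :
    Commute g (xmm p r t) := by
  have h := conj_xmm g p r t
  rw [h1, h2] at h
  show g * xmm p r t = xmm p r t * g
  rw [mul_inv_eq_iff_eq_mul] at h
  exact h

theorem commute_yU (g : OG m F) (p r : Fin m)
    (h1 : lin (plusForm m F) g (eV p) = eV p) (h2 : lin (plusForm m F) g (eV r) = eV r)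
    (h3 : lin (plusForm m F) g (fV p) = fV p) (h4 : lin (plusForm m F) g (fV r) = fV r) :
    Commute g (yU p r) :=
  ((commute_xmm g p r h3 h4 _).mul_right (commute_xpp g p r h1 h2 _)).mul_right (commute_xmm g p r h3 h4 _)

theorem commute_yN (g : OG m F) (p r : Fin m)
    (h1 : lin (plusForm m F) g (eV p) = eV p) (h2 : lin (plusForm m F) g (eV r) = eV r)
    (h3 : lin (plusForm m F) g (fV p) = fV p) (h4 : lin (plusForm m F) g (fV r) = fV r) :
    Commute g (yN p r) :=
  ((commute_xpp g p r h1 h2 _).mul_right (commute_xmm g p r h3 h4 _)).mul_right (commute_xpp g p r h1 h2 _)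

theorem commute_yT (g : OG m F) (p r : Fin m)
    (h1 : lin (plusForm m F) g (eV p) = eV p) (h2 : lin (plusForm m F) g (eV r) = eV r)
    (h3 : lin (plusForm m F) g (fV p) = fV p) (h4 : lin (plusForm m F) g (fV r) = fV r) :
    Commute g (yT p r) :=
  (commute_xpp g p r h1 h2 _).mul_right (commute_xmm g p r h3 h4 _)

theorem yU_mem_Omega [Fintype F] (hm : 3 ≤ m) (p r : Fin m) :
    (yU p r : OG m F) ∈ Cfsg.Omega F ⇑(plusForm m F) :=
  mul_mem (mul_mem (eichlerO_mem_Omega' hm _ _) (eichlerO_mem_Omega' hm _ _)) (eichlerO_mem_Omega' hm _ _)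

theorem yN_mem_Omega [Fintype F] (hm : 3 ≤ m) (p r : Fin m) :
    (yN p r : OG m F) ∈ Cfsg.Omega F ⇑(plusForm m F) :=
  mul_mem (mul_mem (eichlerO_mem_Omega' hm _ _) (eichlerO_mem_Omega' hm _ _)) (eichlerO_mem_Omega' hm _ _)

theorem yT_mem_Omega [Fintype F] (hm : 3 ≤ m) (p r : Fin m) :
    (yT p r : OG m F) ∈ Cfsg.Omega F ⇑(plusForm m F) :=
  mul_mem (eichlerO_mem_Omega' hm _ _) (eichlerO_mem_Omega' hm _ _)

/-- a diagonal element of `SL_m(q)` has order dividing `q - 1` -/
theorem diag_pow_card_sub_one [Fintype F] (h : Matrix.SpecialLinearGroup (Fin m) F) (d : Fin m → F)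
    (hd : ∀ i, d i ≠ 0) (hh : h.1 = Matrix.diagonal d) : h ^ (Fintype.card F - 1) = 1 := by
  apply Subtype.ext
  rw [Matrix.SpecialLinearGroup.coe_pow, Matrix.SpecialLinearGroup.coe_one]
  show h.1 ^ (Fintype.card F - 1) = 1
  rw [hh, Matrix.diagonal_pow, ← Matrix.diagonal_one]
  congr 1
  funext i
  rw [Pi.pow_apply]
  exact FiniteField.pow_card_sub_one_eq_one (d i) (hd i)

end Cfsg.Agent.Helper40.OPlus
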