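import Cfsg.Agent.Helper40.OPlus.YDefs

/-!
# S2414, piece (CRIT-B) (written by helper37 for helper40, board #10663; aux names prefixed `critB_`)

A singular vector `u` with nonzero `e_i`-coordinate `a` is moved to `a e_i` by the Eichler
transformation `E(f_i, w)`, `w = a⁻¹ (u - a e_i - b f_i)`, and symmetrically with `e_i`, `f_i` exchanged.
-/

set_option autoImplicit false

namespace Cfsg.Agent.Helper40.OPlus

open Matrix QuadraticMap Cfsg.Agent.Helper44 Cfsg.Agent.Helper45.OmegaParity Cfsg.Agent.Helper5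


section Generic

variable {F : Type*} [Field F] {ι : Type} [Fintype ι] [DecidableEq ι]
variable (Q : QuadraticForm F (ι → F))

/-- generic form: `(e, f)` a hyperbolic pair, `u` singular with `a = B(f, u) ≠ 0`; then
`w = a⁻¹ (u - a e - b f)` (`b = B(e, u)`) is orthogonal to `e` and `f`, and `E(f, w) u = a e` -/
theorem critB_aux (e f u : ι → F) (he : Q e = 0) (hf : Q f = 0) (hef : polar ⇑Q e f = 1)
    (hu : Q u = 0) (ha : polar ⇑Q f u ≠ 0) :
    ∃ w : ι → F, polar ⇑Q f w = 0 ∧ polar ⇑Q e w = 0 ∧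
      lin Q (eichlerO Q f w) u = polar ⇑Q f u • e := by
  set a := polar ⇑Q f u with ha_def
  set b := polar ⇑Q e u with hb_def
  set u' : ι → F := u - a • e - b • f with hu'
  have hfe : polar ⇑Q f e = 1 := by rw [QuadraticMap.polar_comm]; exact hef
  have hee : polar ⇑Q e e = 0 := by rw [QuadraticMap.polar_self, he, smul_zero]
  have hff : polar ⇑Q f f = 0 := by rw [QuadraticMap.polar_self, hf, smul_zero]
  -- `u'` is orthogonal to `e` and `f`
  have h1 : polar ⇑Q f u' = 0 := by
    rw [hu', QuadraticMap.polar_sub_right, QuadraticMap.polar_sub_right, QuadraticMap.polar_smul_right,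
      QuadraticMap.polar_smul_right, hfe, hff]
    simp [ha_def]
  have h2 : polar ⇑Q e u' = 0 := by
    rw [hu', QuadraticMap.polar_sub_right, QuadraticMap.polar_sub_right, QuadraticMap.polar_smul_right,
      QuadraticMap.polar_smul_right, hee, hef]
    simp [hb_def]
  have hdec : u = u' + (a • e + b • f) := by rw [hu']; abel
  -- `Q u' = -(a b)`
  have h3 : Q u' = -(a * b) := by
    have hQ2 : Q (a • e + b • f) = a * b := by
      rw [QuadraticMap.map_add Q, QuadraticMap.map_smul, QuadraticMap.map_smul, he, hf,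
        QuadraticMap.polar_smul_left, QuadraticMap.polar_smul_right, hef]
      simp
    have hP : polar ⇑Q u' (a • e + b • f) = 0 := by
      rw [QuadraticMap.polar_add_right, QuadraticMap.polar_smul_right, QuadraticMap.polar_smul_right,
        QuadraticMap.polar_comm ⇑Q u' e, QuadraticMap.polar_comm ⇑Q u' f, h1, h2]
      simp
    have := hu
    rw [hdec, QuadraticMap.map_add Q, hQ2, hP, add_zero] at this
    exact eq_neg_of_add_eq_zero_left this
  -- `B(u', u) = -2ab`
  have h4 : polar ⇑Q u' u = -(2 * (a * b)) := by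
    have hP : polar ⇑Q u' (a • e + b • f) = 0 := by
      rw [QuadraticMap.polar_add_right, QuadraticMap.polar_smul_right, QuadraticMap.polar_smul_right,
        QuadraticMap.polar_comm ⇑Q u' e, QuadraticMap.polar_comm ⇑Q u' f, h1, h2]
      simp
    conv_lhs => rw [hdec]
    rw [QuadraticMap.polar_add_right, hP, add_zero, QuadraticMap.polar_self, h3]
    simp
  refine ⟨a⁻¹ • u', ?_, ?_, ?_⟩
  · rw [QuadraticMap.polar_smul_right, h1, smul_zero]
  · rw [QuadraticMap.polar_smul_right, h2, smul_zero]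
  · have hfw : polar ⇑Q f (a⁻¹ • u') = 0 := by
      rw [QuadraticMap.polar_smul_right, h1, smul_zero]
    rw [lin_eichlerO Q hf hfw u, QuadraticMap.polar_smul_left, h4, QuadraticMap.map_smul, h3, ← ha_def]
    have e1 : a • a⁻¹ • u' = u' := by rw [smul_smul, mul_inv_cancel₀ ha, one_smul]
    have e2 : (a⁻¹ • -(2 * (a * b)) : F) = -(2 * b) := by
      rw [smul_eq_mul]; field_simp
    have e3 : ((a⁻¹ * a⁻¹) • -(a * b) * a : F) = -b := by
      rw [smul_eq_mul]; field_simp
    rw [e1, e2, e3, hu']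
    module

end Generic

variable {F : Type*} [Field F] {m : ℕ}

theorem critB_polar_eV_fV (i : Fin m) : polar ⇑(plusForm m F) (eV i) (fV i) = 1 := by
  rw [polar_eV, fV_inr, if_pos rfl]

/-- (CRIT-B) a singular vector with nonzero `e_i`-coordinate `a` is moved to `a e_i` by some `E(f_i, w)` -/
theorem move_to_eV (u : Fin m ⊕ Fin m → F) (hu : plusForm m F u = 0) (i : Fin m)
    (ha : u (Sum.inl i) ≠ 0) :
    ∃ w : Fin m ⊕ Fin m → F, w (Sum.inl i) = 0 ∧
      lin (plusForm m F) (eichlerO (plusForm m F) (fV i) w) u = u (Sum.inl i) • eV i := by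
  obtain ⟨w, hw1, -, hw3⟩ := critB_aux (plusForm m F) (eV i) (fV i) u (Q_eV i) (Q_fV i) (critB_polar_eV_fV i) hu
    (by rw [polar_fV]; exact ha)
  refine ⟨w, ?_, ?_⟩
  · rw [← polar_fV i w]; exact hw1
  · rw [hw3, polar_fV]

/-- (CRIT-B) -/
theorem move_to_fV (u : Fin m ⊕ Fin m → F) (hu : plusForm m F u = 0) (i : Fin m)
    (hb : u (Sum.inr i) ≠ 0) :
    ∃ w : Fin m ⊕ Fin m → F, w (Sum.inr i) = 0 ∧
      lin (plusForm m F) (eichlerO (plusForm m F) (eV i) w) u = u (Sum.inr i) • fV i := by
  obtain ⟨w, hw1, -, hw3⟩ := critB_aux (plusForm m F) (fV i) (eV i) u (Q_fV i) (Q_eV i)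
    (by rw [QuadraticMap.polar_comm]; exact critB_polar_eV_fV i) hu (by rw [polar_eV]; exact hb)
  refine ⟨w, ?_, ?_⟩
  · rw [← polar_eV i w]; exact hw1
  · rw [hw3, polar_eV]

end Cfsg.Agent.Helper40.OPlus
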