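import Cfsg.Agent.Helper40.OPlus.CritA
import Cfsg.Agent.Helper40.OPlus.CritB

set_option autoImplicit false

namespace Cfsg.Agent.Helper40.OPlus

open Matrix QuadraticMap Cfsg.Agent.Helper44 Cfsg.Agent.Helper45.OmegaParity Cfsg.Agent.Helper5

variable {F : Type*} [Field F] {m : ℕ}

theorem eichlerO_zero_left (w : Fin m ⊕ Fin m → F) : eichlerO (plusForm m F) 0 w = 1 := by
  apply isom_ext
  intro x
  rw [lin_eichlerO _ (map_zero _) (QuadraticMap.polar_zero_left _ _), lin_one_apply,
    QuadraticMap.polar_zero_left]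
  simp

/-- (CRIT-C) -/
theorem crit [Fintype F] (hm : 3 ≤ m) (L : Subgroup (OG m F))
    (hpp : ∀ i j : Fin m, i ≠ j → ∀ t : F, xpp i j t ∈ L)
    (hpm : ∀ i j : Fin m, i ≠ j → ∀ t : F, xpm i j t ∈ L)
    (hmm : ∀ i j : Fin m, i ≠ j → ∀ t : F, xmm i j t ∈ L) :
    Cfsg.Omega F ⇑(plusForm m F) ≤ L := by
  rw [Omega_eq hm]
  unfold eichlerGroup
  rw [Subgroup.closure_le]
  rintro g ⟨u, w, hu, huw, rfl⟩
  by_cases h0 : u = 0
  · subst h0
    rw [eichlerO_zero_left]
    exact one_mem _
  · obtain ⟨k, hk⟩ := Function.ne_iff.1 h0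
    rw [Pi.zero_apply] at hk
    rcases k with i | i
    · obtain ⟨w', hw', hg⟩ := move_to_eV u hu i hk
      have hgL : eichlerO (plusForm m F) (fV i) w' ∈ L := eichler_fV_mem L hpm hmm i w' hw'
      have hconj := eichlerO_conj (plusForm m F) (eichlerO (plusForm m F) (fV i) w') hu huw
      have hpol : polar ⇑(plusForm m F) (eV i)
          (lin (plusForm m F) (eichlerO (plusForm m F) (fV i) w') w) = 0 := by
        have h1 := polar_lin (plusForm m F) (eichlerO (plusForm m F) (fV i) w') u w
        rw [hg, huw, QuadraticMap.polar_smul_left, smul_eq_mul] at h1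
        exact (mul_eq_zero.1 h1).resolve_left hk
      rw [hg, eichlerO_smul_left _ (Q_eV i) hpol] at hconj
      have hE : eichlerO (plusForm m F) (eV i)
          (u (Sum.inl i) • lin (plusForm m F) (eichlerO (plusForm m F) (fV i) w') w) ∈ L := by
        apply eichler_eV_mem L hpp hpm
        rw [Pi.smul_apply, ← polar_eV i (lin (plusForm m F) (eichlerO (plusForm m F) (fV i) w') w), hpol, smul_zero]
      rw [← hconj] at hE
      have := L.mul_mem (L.mul_mem (L.inv_mem hgL) hE) hgL
      have e : ∀ a b : OG m F, a⁻¹ * (a * b * a⁻¹) * a = b := by intro a b; group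
      rwa [e] at this
    · obtain ⟨w', hw', hg⟩ := move_to_fV u hu i hk
      have hgL : eichlerO (plusForm m F) (eV i) w' ∈ L := eichler_eV_mem L hpp hpm i w' hw'
      have hconj := eichlerO_conj (plusForm m F) (eichlerO (plusForm m F) (eV i) w') hu huw
      have hpol : polar ⇑(plusForm m F) (fV i)
          (lin (plusForm m F) (eichlerO (plusForm m F) (eV i) w') w) = 0 := by
        have h1 := polar_lin (plusForm m F) (eichlerO (plusForm m F) (eV i) w') u w
        rw [hg, huw, QuadraticMap.polar_smul_left, smul_eq_mul] at h1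
        exact (mul_eq_zero.1 h1).resolve_left hk
      rw [hg, eichlerO_smul_left _ (Q_fV i) hpol] at hconj
      have hE : eichlerO (plusForm m F) (fV i)
          (u (Sum.inr i) • lin (plusForm m F) (eichlerO (plusForm m F) (eV i) w') w) ∈ L := by
        apply eichler_fV_mem L hpm hmm
        rw [Pi.smul_apply, ← polar_fV i (lin (plusForm m F) (eichlerO (plusForm m F) (eV i) w') w), hpol, smul_zero]
      rw [← hconj] at hE
      have := L.mul_mem (L.mul_mem (L.inv_mem hgL) hE) hgL
      have e : ∀ a b : OG m F, a⁻¹ * (a * b * a⁻¹) * a = b := by intro a b; group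
      rwa [e] at this

end Cfsg.Agent.Helper40.OPlus
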