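import Cfsg.Agent.Helper40.OPlus.YDefs

/-!
# S2414 (helper40), piece (CRIT-A): the Eichler transformations `E(e_i, w)`, `E(f_i, w)` lie in any
subgroup containing the root elements
-/

set_option autoImplicit false

namespace Cfsg.Agent.Helper40.OPlus

open Matrix QuadraticMap Cfsg.Agent.Helper44 Cfsg.Agent.Helper45.OmegaParity Cfsg.Agent.Helper5

variable {F : Type*} [Field F] {m : ℕ}

theorem critA_single_inl (j : Fin m) (c : F) :
    (Pi.single (Sum.inl j) c : Fin m ⊕ Fin m → F) = c • eV j := by
  unfold eV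
  rw [← Pi.single_smul, smul_eq_mul, mul_one]

theorem critA_single_inr (j : Fin m) (c : F) :
    (Pi.single (Sum.inr j) c : Fin m ⊕ Fin m → F) = c • fV j := by
  unfold fV
  rw [← Pi.single_smul, smul_eq_mul, mul_one]

/-- (CRIT-A) -/
theorem eichler_eV_mem (L : Subgroup (OG m F))
    (hpp : ∀ i j : Fin m, i ≠ j → ∀ t : F, xpp i j t ∈ L)
    (hpm : ∀ i j : Fin m, i ≠ j → ∀ t : F, xpm i j t ∈ L)
    (i : Fin m) (w : Fin m ⊕ Fin m → F) (hw : w (Sum.inr i) = 0) :
    eichlerO (plusForm m F) (eV i) w ∈ L := by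
  classical
  have key : (∑ k : Fin m ⊕ Fin m, (Pi.single k (w k) : Fin m ⊕ Fin m → F)) (Sum.inr i) = 0 ∧
      eichlerO (plusForm m F) (eV i) (∑ k : Fin m ⊕ Fin m, (Pi.single k (w k) : Fin m ⊕ Fin m → F))
        ∈ L := by
    refine Finset.sum_induction _
      (fun v : Fin m ⊕ Fin m → F => v (Sum.inr i) = 0 ∧ eichlerO (plusForm m F) (eV i) v ∈ L)
      ?_ ?_ ?_
    · rintro a b ⟨ha, haL⟩ ⟨hb, hbL⟩
      refine ⟨by rw [Pi.add_apply, ha, hb, add_zero], ?_⟩
      rw [← eichlerO_mul (plusForm m F) (Q_eV i) (by rw [polar_eV, ha]) (by rw [polar_eV, hb])]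
      exact L.mul_mem haL hbL
    · refine ⟨rfl, ?_⟩
      rw [eichlerO_zero]
      exact L.one_mem
    · rintro (j | j) _
      · by_cases hji : j = i
        · subst hji
          refine ⟨by rw [Pi.single_eq_of_ne (by simp)], ?_⟩
          rw [critA_single_inl]
          have h := eichlerO_add_smul (plusForm m F) (u := eV j) (w := 0) (Q_eV j)
            (QuadraticMap.polar_zero_right _ _) (w (Sum.inl j))
          rw [zero_add] at h
          rw [h, eichlerO_zero]
          exact L.one_mem
        · refine ⟨by rw [Pi.single_eq_of_ne (by simp)], ?_⟩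
          rw [critA_single_inl]
          exact hpp i j (fun h => hji h.symm) _
      · by_cases hji : j = i
        · subst hji
          rw [hw, Pi.single_zero]
          refine ⟨rfl, ?_⟩
          rw [eichlerO_zero]
          exact L.one_mem
        · refine ⟨by rw [Pi.single_eq_of_ne (by simpa using (fun h : i = j => hji h.symm))], ?_⟩
          rw [critA_single_inr]
          exact hpm i j (fun h => hji h.symm) _
  rw [Finset.univ_sum_single] at key
  exact key.2

/-- (CRIT-A) -/
theorem eichler_fV_mem (L : Subgroup (OG m F))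
    (hpm : ∀ i j : Fin m, i ≠ j → ∀ t : F, xpm i j t ∈ L)
    (hmm : ∀ i j : Fin m, i ≠ j → ∀ t : F, xmm i j t ∈ L)
    (i : Fin m) (w : Fin m ⊕ Fin m → F) (hw : w (Sum.inl i) = 0) :
    eichlerO (plusForm m F) (fV i) w ∈ L := by
  classical
  have key : (∑ k : Fin m ⊕ Fin m, (Pi.single k (w k) : Fin m ⊕ Fin m → F)) (Sum.inl i) = 0 ∧
      eichlerO (plusForm m F) (fV i) (∑ k : Fin m ⊕ Fin m, (Pi.single k (w k) : Fin m ⊕ Fin m → F))
        ∈ L := by
    refine Finset.sum_induction _
      (fun v : Fin m ⊕ Fin m → F => v (Sum.inl i) = 0 ∧ eichlerO (plusForm m F) (fV i) v ∈ L)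
      ?_ ?_ ?_
    · rintro a b ⟨ha, haL⟩ ⟨hb, hbL⟩
      refine ⟨by rw [Pi.add_apply, ha, hb, add_zero], ?_⟩
      rw [← eichlerO_mul (plusForm m F) (Q_fV i) (by rw [polar_fV, ha]) (by rw [polar_fV, hb])]
      exact L.mul_mem haL hbL
    · refine ⟨rfl, ?_⟩
      rw [eichlerO_zero]
      exact L.one_mem
    · rintro (j | j) _
      · by_cases hji : j = i
        · subst hji
          rw [hw, Pi.single_zero]
          refine ⟨rfl, ?_⟩
          rw [eichlerO_zero]
          exact L.one_mem
        · refine ⟨by rw [Pi.single_eq_of_ne (by simpa using (fun h : i = j => hji h.symm))], ?_⟩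
          rw [critA_single_inl]
          -- `E(f_i, t e_j) = xpm j i (-t)`
          have h := xpm_swap (F := F) (i := j) (j := i) hji (-(w (Sum.inl j)))
          rw [neg_neg] at h
          rw [← h]
          exact hpm j i hji _
      · by_cases hji : j = i
        · subst hji
          refine ⟨by rw [Pi.single_eq_of_ne (by simp)], ?_⟩
          rw [critA_single_inr]
          have h := eichlerO_add_smul (plusForm m F) (u := fV j) (w := 0) (Q_fV j)
            (QuadraticMap.polar_zero_right _ _) (w (Sum.inr j))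
          rw [zero_add] at h
          rw [h, eichlerO_zero]
          exact L.one_mem
        · refine ⟨by rw [Pi.single_eq_of_ne (by simp)], ?_⟩
          rw [critA_single_inr]
          exact hmm i j (fun h => hji h.symm) _
  rw [Finset.univ_sum_single] at key
  exact key.2

end Cfsg.Agent.Helper40.OPlus
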