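import Mathlib
import Cfsg.Prelude.Def_Classical
import Cfsg.Agent.Helper44.EichlerOmega
import Cfsg.Agent.Helper44.StdNondeg
import Cfsg.Agent.Helper44.PlusEmbed

/-!
# Two generators for `Ω⁺_{2m}(q)`: definitions and basic facts (helper40, for S2414)

`Q = plusForm m F` on `Fin m ⊕ Fin m → F` (`Q v = ∑ i, v (inl i) * v (inr i)`), `eV i`, `fV i` the standard
hyperbolic basis, and the root elements of type `D_m` written as Eichler transformations
(`Cfsg.Agent.Helper5.eichlerO`):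

* `xpp i j t = E(e_i, t e_j)`  (root `ε_i + ε_j`),
* `xpm i j t = E(e_i, t f_j)`  (root `ε_i - ε_j`; this is the image of the transvection `T_ij(t)` of `SL_m`),
* `xmm i j t = E(f_i, t f_j)`  (root `-ε_i - ε_j`),

and `iota : SL_m(F) →* O(Q)`, `A ↦ diag(A, A⁻ᵀ)`.
-/

set_option autoImplicit false

namespace Cfsg.Agent.Helper40.OPlus

open Matrix QuadraticMap Cfsg.Agent.Helper44 Cfsg.Agent.Helper45.OmegaParity Cfsg.Agent.Helper5

variable {F : Type*} [Field F] {m : ℕ}

/-- the ambient isometry group of the plus form -/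
abbrev OG (m : ℕ) (F : Type*) [Field F] := ↥(Cfsg.isometryGroup F ⇑(plusForm m F))

/-- `e_i` -/
def eV (i : Fin m) : Fin m ⊕ Fin m → F := Pi.single (Sum.inl i) 1

/-- `f_i` -/
def fV (i : Fin m) : Fin m ⊕ Fin m → F := Pi.single (Sum.inr i) 1

theorem eV_inl (i j : Fin m) : (eV i : Fin m ⊕ Fin m → F) (Sum.inl j) = if j = i then 1 else 0 := by
  unfold eV
  by_cases h : j = i
  · subst h; rw [if_pos rfl, Pi.single_eq_same]
  · rw [if_neg h, Pi.single_eq_of_ne (fun h' => h (Sum.inl.inj h'))]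

theorem eV_inr (i j : Fin m) : (eV i : Fin m ⊕ Fin m → F) (Sum.inr j) = 0 := by
  unfold eV
  rw [Pi.single_eq_of_ne (by simp)]

theorem fV_inr (i j : Fin m) : (fV i : Fin m ⊕ Fin m → F) (Sum.inr j) = if j = i then 1 else 0 := by
  unfold fV
  by_cases h : j = i
  · subst h; rw [if_pos rfl, Pi.single_eq_same]
  · rw [if_neg h, Pi.single_eq_of_ne (fun h' => h (Sum.inr.inj h'))]

theorem fV_inl (i j : Fin m) : (fV i : Fin m ⊕ Fin m → F) (Sum.inl j) = 0 := by
  unfold fV
  rw [Pi.single_eq_of_ne (by simp)]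

theorem Q_apply (v : Fin m ⊕ Fin m → F) :
    plusForm m F v = ∑ i : Fin m, v (Sum.inl i) * v (Sum.inr i) := rfl

theorem polar_apply (u v : Fin m ⊕ Fin m → F) :
    polar ⇑(plusForm m F) u v = ∑ i : Fin m, (u (Sum.inl i) * v (Sum.inr i) + v (Sum.inl i) * u (Sum.inr i)) :=
  polar_quadFormPlus m u v

theorem Q_eV (i : Fin m) : plusForm m F (eV i) = 0 := by
  rw [Q_apply]
  apply Finset.sum_eq_zero
  intro j _
  rw [eV_inr, mul_zero]

theorem Q_fV (i : Fin m) : plusForm m F (fV i) = 0 := by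
  rw [Q_apply]
  apply Finset.sum_eq_zero
  intro j _
  rw [fV_inl, zero_mul]

theorem polar_eV (i : Fin m) (v : Fin m ⊕ Fin m → F) :
    polar ⇑(plusForm m F) (eV i) v = v (Sum.inr i) := by
  rw [polar_apply, Finset.sum_eq_single i]
  · rw [eV_inl, if_pos rfl, eV_inr, one_mul, mul_zero, add_zero]
  · intro j _ hj
    rw [eV_inl, if_neg hj, eV_inr, zero_mul, mul_zero, add_zero]
  · intro h; exact absurd (Finset.mem_univ _) h

theorem polar_fV (i : Fin m) (v : Fin m ⊕ Fin m → F) :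
    polar ⇑(plusForm m F) (fV i) v = v (Sum.inl i) := by
  rw [polar_apply, Finset.sum_eq_single i]
  · rw [fV_inl, fV_inr, if_pos rfl, zero_mul, mul_one, zero_add]
  · intro j _ hj
    rw [fV_inl, fV_inr, if_neg hj, zero_mul, mul_zero, add_zero]
  · intro h; exact absurd (Finset.mem_univ _) h

theorem polar_eV' (i : Fin m) (v : Fin m ⊕ Fin m → F) :
    polar ⇑(plusForm m F) v (eV i) = v (Sum.inr i) := by
  rw [QuadraticMap.polar_comm, polar_eV]

theorem polar_fV' (i : Fin m) (v : Fin m ⊕ Fin m → F) :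
    polar ⇑(plusForm m F) v (fV i) = v (Sum.inl i) := by
  rw [QuadraticMap.polar_comm, polar_fV]

/-- root element for `ε_i + ε_j` -/
noncomputable def xpp (i j : Fin m) (t : F) : OG m F := eichlerO (plusForm m F) (eV i) (t • eV j)

/-- root element for `ε_i - ε_j` -/
noncomputable def xpm (i j : Fin m) (t : F) : OG m F := eichlerO (plusForm m F) (eV i) (t • fV j)

/-- root element for `-ε_i - ε_j` -/
noncomputable def xmm (i j : Fin m) (t : F) : OG m F := eichlerO (plusForm m F) (fV i) (t • fV j)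

/-- `A ↦ diag(A, A⁻ᵀ)` on `SL_m` -/
def iota : Matrix.SpecialLinearGroup (Fin m) F →* OG m F :=
  (plusEmbed (F := F) (m := m)).comp Matrix.SpecialLinearGroup.toGL

theorem iota_coe (A : Matrix.SpecialLinearGroup (Fin m) F) :
    (((iota A : OG m F) : GL (Fin m ⊕ Fin m) F) : Matrix (Fin m ⊕ Fin m) (Fin m ⊕ Fin m) F)
      = Matrix.fromBlocks (A : Matrix (Fin m) (Fin m) F) 0 0
          ((A⁻¹ : Matrix.SpecialLinearGroup (Fin m) F) : Matrix (Fin m) (Fin m) F)ᵀ := rfl

theorem iota_mem_Omega [Fintype F] (hm : 3 ≤ m) (A : Matrix.SpecialLinearGroup (Fin m) F) :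
    iota A ∈ Cfsg.Omega F ⇑(plusForm m F) :=
  plusEmbed_mem_Omega_of_det_eq_one (Or.inr (by omega)) _ A.2

theorem card_idx (m : ℕ) : Fintype.card (Fin m ⊕ Fin m) = 2 * m := by
  rw [Fintype.card_sum, Fintype.card_fin]; ring

/-- `Ω` is generated by the Eichler transformations -/
theorem Omega_eq [Fintype F] (hm : 3 ≤ m) :
    Cfsg.Omega F ⇑(plusForm m F) = eichlerGroup (plusForm m F) :=
  Omega_eq_eichlerGroup (plusForm m F) (nondegenerate_plusForm m) (by rw [card_idx]; omega)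

theorem eichlerO_mem_Omega' [Fintype F] (hm : 3 ≤ m) (u w : Fin m ⊕ Fin m → F) :
    eichlerO (plusForm m F) u w ∈ Cfsg.Omega F ⇑(plusForm m F) := by
  rw [Omega_eq hm]
  exact eichlerO_mem_eichlerGroup _ u w

end Cfsg.Agent.Helper40.OPlus
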