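import Cfsg.Agent.Helper40.OPlus.YDefs

/-!
# (IOTA) for S2414 (helper40): the embedding `iota : SL_m →* O⁺_{2m}`, `A ↦ diag(A, A⁻ᵀ)`
(Proofs: helper70.)
-/

set_option autoImplicit false

namespace Cfsg.Agent.Helper40.OPlus

open Matrix QuadraticMap Cfsg.Agent.Helper44 Cfsg.Agent.Helper45.OmegaParity Cfsg.Agent.Helper5

variable {F : Type*} [Field F] {m : ℕ}

theorem lin_iota_eV (A : Matrix.SpecialLinearGroup (Fin m) F) (j : Fin m) :
    lin (plusForm m F) (iota A) (eV j) = ∑ i, A.1 i j • (eV i : Fin m ⊕ Fin m → F) := by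
  ext k
  rw [lin_apply, iota_coe, eV, Matrix.mulVec_single_one, Finset.sum_apply]
  rcases k with k | k
  · simp only [Matrix.col_apply, Matrix.fromBlocks_apply₁₁, Pi.smul_apply, eV_inl, smul_eq_mul,
      mul_ite, mul_one, mul_zero, Finset.sum_ite_eq, Finset.mem_univ, if_true]
  · simp only [Matrix.col_apply, Matrix.fromBlocks_apply₂₁, Matrix.zero_apply, Pi.smul_apply,
      eV_inr, smul_eq_mul, mul_zero, Finset.sum_const_zero]

theorem lin_iota_fV (A : Matrix.SpecialLinearGroup (Fin m) F) (j : Fin m) :
    lin (plusForm m F) (iota A) (fV j) = ∑ i, (A⁻¹).1 j i • (fV i : Fin m ⊕ Fin m → F) := by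
  ext k
  rw [lin_apply, iota_coe, fV, Matrix.mulVec_single_one, Finset.sum_apply]
  rcases k with k | k
  · simp only [Matrix.col_apply, Matrix.fromBlocks_apply₁₂, Matrix.zero_apply, Pi.smul_apply,
      fV_inl, smul_eq_mul, mul_zero, Finset.sum_const_zero]
  · simp only [Matrix.col_apply, Matrix.fromBlocks_apply₂₂, Matrix.transpose_apply, Pi.smul_apply,
      fV_inr, smul_eq_mul, mul_ite, mul_one, mul_zero, Finset.sum_ite_eq, Finset.mem_univ, if_true]

/-- if the `j`-th column of `A` is the `j`-th unit vector then `iota A` fixes `e_j` -/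
theorem lin_iota_eV_fix (A : Matrix.SpecialLinearGroup (Fin m) F) (j : Fin m)
    (h : ∀ i, A.1 i j = if i = j then 1 else 0) :
    lin (plusForm m F) (iota A) (eV j) = eV j := by
  rw [lin_iota_eV]
  simp only [h, ite_smul, one_smul, zero_smul, Finset.sum_ite_eq', Finset.mem_univ, if_true]

/-- the `j`-th row of `A⁻¹` when the `j`-th row of `A` is the `j`-th unit vector -/
theorem Iota_inv_row (A : Matrix.SpecialLinearGroup (Fin m) F) (j : Fin m)
    (h : ∀ i, A.1 j i = if i = j then 1 else 0) (i : Fin m) :
    (A⁻¹).1 j i = if i = j then 1 else 0 := by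
  have h1 : (A * A⁻¹).1 j i = (1 : Matrix.SpecialLinearGroup (Fin m) F).1 j i := by
    rw [mul_inv_cancel]
  rw [Matrix.SpecialLinearGroup.coe_mul, Matrix.mul_apply, Matrix.SpecialLinearGroup.coe_one,
    Matrix.one_apply] at h1
  simp only [h, ite_mul, one_mul, zero_mul, Finset.sum_ite_eq', Finset.mem_univ, if_true] at h1
  rw [h1]
  by_cases hij : j = i
  · rw [if_pos hij, if_pos hij.symm]
  · rw [if_neg hij, if_neg (fun h' => hij h'.symm)]

/-- if the `j`-th row of `A` is the `j`-th unit vector then `iota A` fixes `f_j` -/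
theorem lin_iota_fV_fix (A : Matrix.SpecialLinearGroup (Fin m) F) (j : Fin m)
    (h : ∀ i, A.1 j i = if i = j then 1 else 0) :
    lin (plusForm m F) (iota A) (fV j) = fV j := by
  rw [lin_iota_fV]
  simp only [Iota_inv_row A j h, ite_smul, one_smul, zero_smul, Finset.sum_ite_eq',
    Finset.mem_univ, if_true]

/-- the inverse of a transvection -/
theorem Iota_transvection_inv {i j : Fin m} (hij : i ≠ j) (t : F) :
    (Matrix.SpecialLinearGroup.transvection hij t)⁻¹ =
      Matrix.SpecialLinearGroup.transvection hij (-t) := by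
  rw [inv_eq_iff_mul_eq_one]
  apply Subtype.ext
  rw [Matrix.SpecialLinearGroup.coe_mul, Matrix.SpecialLinearGroup.coe_one]
  show Matrix.transvection i j t * Matrix.transvection i j (-t) = 1
  rw [Matrix.transvection_mul_transvection_same i j hij, add_neg_cancel, Matrix.transvection_zero]

theorem iota_transvection {i j : Fin m} (hij : i ≠ j) (t : F) :
    iota (Matrix.SpecialLinearGroup.transvection hij t) = xpm i j t := by
  apply isom_ext_basis
  · intro k
    rw [lin_iota_eV, lin_xpm hij, eV_inl, eV_inr, mul_zero, zero_smul, sub_zero]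
    have h1 : ∀ i' : Fin m, (Matrix.SpecialLinearGroup.transvection hij t).1 i' k =
        (if i' = k then 1 else 0) + (if i' = i ∧ k = j then t else 0) := by
      intro i'
      rw [Matrix.SpecialLinearGroup.transvection_coe, Matrix.add_apply, Matrix.one_apply,
        Matrix.single_apply]
      congr 1
      by_cases h : i = i' ∧ j = k
      · rw [if_pos h, if_pos ⟨h.1.symm, h.2.symm⟩]
      · rw [if_neg h, if_neg (fun h' => h ⟨h'.1.symm, h'.2.symm⟩)]
    simp only [h1, add_smul, Finset.sum_add_distrib, ite_smul, one_smul, zero_smul,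
      Finset.sum_ite_eq', Finset.mem_univ, if_true]
    congr 1
    by_cases hk : k = j
    · subst hk
      simp only [and_true, Finset.sum_ite_eq', Finset.mem_univ, if_true, mul_one]
    · simp only [hk, and_false, if_false, Finset.sum_const_zero, mul_zero, zero_smul,
        if_neg (fun h' : j = k => hk h'.symm)]
  · intro k
    rw [lin_iota_fV, lin_xpm hij, fV_inl, fV_inr, mul_zero, zero_smul, add_zero,
      Iota_transvection_inv hij t]
    have h1 : ∀ i' : Fin m, (Matrix.SpecialLinearGroup.transvection hij (-t)).1 k i' =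
        (if i' = k then 1 else 0) + (if k = i ∧ i' = j then -t else 0) := by
      intro i'
      rw [Matrix.SpecialLinearGroup.transvection_coe, Matrix.add_apply, Matrix.one_apply,
        Matrix.single_apply]
      congr 1
      · by_cases h : k = i'
        · rw [if_pos h, if_pos h.symm]
        · rw [if_neg h, if_neg (fun h' => h h'.symm)]
      · by_cases h : i = k ∧ j = i'
        · rw [if_pos h, if_pos ⟨h.1.symm, h.2.symm⟩]
        · rw [if_neg h, if_neg (fun h' => h ⟨h'.1.symm, h'.2.symm⟩)]
    simp only [h1, add_smul, Finset.sum_add_distrib, ite_smul, one_smul, zero_smul,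
      Finset.sum_ite_eq', Finset.mem_univ, if_true]
    rw [sub_eq_add_neg]
    congr 1
    by_cases hk : k = i
    · subst hk
      simp only [true_and, Finset.sum_ite_eq', Finset.mem_univ, if_true, mul_one, neg_smul]
    · simp only [hk, false_and, if_false, Finset.sum_const_zero, mul_zero, zero_smul, neg_zero,
        if_neg (fun h' : i = k => hk h'.symm)]

end Cfsg.Agent.Helper40.OPlus
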