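import Cfsg.Agent.Helper40.OPlus.YDefs

/-!
# S2414 (helper40), piece (SPREAD): one long root subgroup of type `ε_i + ε_j` (resp. `-ε_i - ε_j`)
together with all `xpm` gives all of them.
-/

set_option autoImplicit false

namespace Cfsg.Agent.Helper40.OPlus

open Matrix QuadraticMap Cfsg.Agent.Helper44 Cfsg.Agent.Helper45.OmegaParity Cfsg.Agent.Helper5

variable {F : Type*} [Field F] {m : ℕ}

theorem spread_pp (hm : 3 ≤ m) (L : Subgroup (OG m F))
    (hpm : ∀ i j : Fin m, i ≠ j → ∀ t : F, xpm i j t ∈ L)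
    (i0 j0 : Fin m) (h0 : i0 ≠ j0) (h : ∀ t : F, xpp i0 j0 t ∈ L) :
    ∀ i j : Fin m, i ≠ j → ∀ t : F, xpp i j t ∈ L := by
  have stepB : ∀ i j k : Fin m, i ≠ j → k ≠ i → k ≠ j → (∀ t : F, xpp i j t ∈ L) →
      ∀ t : F, xpp i k t ∈ L := by
    intro i j k hij hki hkj hP t
    have hg : xpm k j (1 : F) ∈ L := hpm k j hkj 1
    have hconj : xpm k j (1 : F) * xpp i j t * (xpm k j (1 : F))⁻¹ = xpp i j t * xpp i k t := by
      rw [conj_xpp, lin_xpm hkj, lin_xpm hkj]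
      have e1 : (eV i : Fin m ⊕ Fin m → F) + ((1 : F) * (eV i : Fin m ⊕ Fin m → F) (Sum.inl j)) • eV k
          - ((1 : F) * (eV i : Fin m ⊕ Fin m → F) (Sum.inr k)) • fV j = eV i := by
        rw [eV_inl, eV_inr, if_neg hij.symm]
        simp
      have e2 : (eV j : Fin m ⊕ Fin m → F) + ((1 : F) * (eV j : Fin m ⊕ Fin m → F) (Sum.inl j)) • eV k
          - ((1 : F) * (eV j : Fin m ⊕ Fin m → F) (Sum.inr k)) • fV j = eV j + eV k := by
        rw [eV_inl, eV_inr, if_pos rfl]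
        simp
      rw [e1, e2]
      unfold xpp
      rw [eichlerO_mul _ (Q_eV i) (polar_eV_eV i j t) (polar_eV_eV i k t), smul_add]
    have e : xpp i k t = (xpp i j t)⁻¹ * (xpm k j 1 * xpp i j t * (xpm k j 1)⁻¹) := by
      rw [hconj]; group
    rw [e]
    exact L.mul_mem (L.inv_mem (hP t)) (L.mul_mem (L.mul_mem hg (hP t)) (L.inv_mem hg))
  have symm : ∀ i j : Fin m, (∀ t : F, xpp i j t ∈ L) → ∀ t : F, xpp j i t ∈ L := by
    intro i j hP t
    rw [xpp_symm j i t]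
    exact hP (-t)
  have row : ∀ a b : Fin m, a ≠ b → (∀ t : F, xpp a b t ∈ L) →
      ∀ k : Fin m, k ≠ a → ∀ t : F, xpp a k t ∈ L := by
    intro a b hab hP k hka
    by_cases hkb : k = b
    · subst hkb; exact hP
    · exact stepB a b k hab hka hkb hP
  intro i j hij
  by_cases hi : i = i0
  · subst hi
    exact row i j0 h0 h j hij.symm
  · have h1 := row i0 j0 h0 h i hi
    have h2 := symm i0 i h1
    exact row i i0 hi h2 j hij.symm

theorem spread_mm (hm : 3 ≤ m) (L : Subgroup (OG m F))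
    (hpm : ∀ i j : Fin m, i ≠ j → ∀ t : F, xpm i j t ∈ L)
    (i0 j0 : Fin m) (h0 : i0 ≠ j0) (h : ∀ t : F, xmm i0 j0 t ∈ L) :
    ∀ i j : Fin m, i ≠ j → ∀ t : F, xmm i j t ∈ L := by
  have stepB : ∀ i j k : Fin m, i ≠ j → k ≠ i → k ≠ j → (∀ t : F, xmm i j t ∈ L) →
      ∀ t : F, xmm i k t ∈ L := by
    intro i j k hij hki hkj hP t
    have hjk : j ≠ k := fun h => hkj h.symm
    have hg : xpm j k (-1 : F) ∈ L := hpm j k hjk (-1)
    have hconj : xpm j k (-1 : F) * xmm i j t * (xpm j k (-1 : F))⁻¹ = xmm i j t * xmm i k t := by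
      rw [conj_xmm, lin_xpm hjk, lin_xpm hjk]
      have e1 : (fV i : Fin m ⊕ Fin m → F) + ((-1 : F) * (fV i : Fin m ⊕ Fin m → F) (Sum.inl k)) • eV j
          - ((-1 : F) * (fV i : Fin m ⊕ Fin m → F) (Sum.inr j)) • fV k = fV i := by
        rw [fV_inl, fV_inr, if_neg hij.symm]
        simp
      have e2 : (fV j : Fin m ⊕ Fin m → F) + ((-1 : F) * (fV j : Fin m ⊕ Fin m → F) (Sum.inl k)) • eV j
          - ((-1 : F) * (fV j : Fin m ⊕ Fin m → F) (Sum.inr j)) • fV k = fV j + fV k := by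
        rw [fV_inl, fV_inr, if_pos rfl]
        simp
      rw [e1, e2]
      unfold xmm
      rw [eichlerO_mul _ (Q_fV i) (polar_fV_fV i j t) (polar_fV_fV i k t), smul_add]
    have e : xmm i k t = (xmm i j t)⁻¹ * (xpm j k (-1) * xmm i j t * (xpm j k (-1))⁻¹) := by
      rw [hconj]; group
    rw [e]
    exact L.mul_mem (L.inv_mem (hP t)) (L.mul_mem (L.mul_mem hg (hP t)) (L.inv_mem hg))
  have symm : ∀ i j : Fin m, (∀ t : F, xmm i j t ∈ L) → ∀ t : F, xmm j i t ∈ L := by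
    intro i j hP t
    rw [xmm_symm j i t]
    exact hP (-t)
  have row : ∀ a b : Fin m, a ≠ b → (∀ t : F, xmm a b t ∈ L) →
      ∀ k : Fin m, k ≠ a → ∀ t : F, xmm a k t ∈ L := by
    intro a b hab hP k hka
    by_cases hkb : k = b
    · subst hkb; exact hP
    · exact stepB a b k hab hka hkb hP
  intro i j hij
  by_cases hi : i = i0
  · subst hi
    exact row i j0 h0 h j hij.symm
  · have h1 := row i0 j0 h0 h i hi
    have h2 := symm i0 i h1
    exact row i i0 hi h2 j hij.symm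

end Cfsg.Agent.Helper40.OPlus
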