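import Cfsg.Agent.Helper40.OPlus.YDefs

/-!
# (YN) the monomial element `yN p r = xpp p r 1 * xmm p r 1 * xpp p r 1` (piece for S2414; by helper48)

`e_p ↦ -f_r ↦ -e_p`, `f_p ↦ -e_r ↦ -f_p`, all other basis vectors fixed; so `yN ^ 4 = 1`.
-/

set_option autoImplicit false

namespace Cfsg.Agent.Helper40.OPlus

open Matrix QuadraticMap Cfsg.Agent.Helper44 Cfsg.Agent.Helper45.OmegaParity Cfsg.Agent.Helper5

variable {F : Type*} [Field F] {m : ℕ}

theorem yN_fix_eV {p r : Fin m} (j : Fin m) (hp : j ≠ p) (hr : j ≠ r) :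
    lin (plusForm m F) (yN p r) (eV j) = eV j := by
  unfold yN
  rw [lin_mul_apply, lin_mul_apply, xpp_eV, xmm_eV, if_neg hr, if_neg hp, zero_smul, zero_smul,
    add_zero, sub_zero, xpp_eV]

theorem yN_fix_fV {p r : Fin m} (j : Fin m) (hp : j ≠ p) (hr : j ≠ r) :
    lin (plusForm m F) (yN p r) (fV j) = fV j := by
  unfold yN
  rw [lin_mul_apply, lin_mul_apply, xpp_fV, if_neg hr, if_neg hp, zero_smul, zero_smul,
    add_zero, sub_zero, xmm_fV, xpp_fV, if_neg hr, if_neg hp, zero_smul, zero_smul,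
    add_zero, sub_zero]

/-- `f_p ↦ -e_r` -/
theorem yN_fV_neg {p r : Fin m} (hpr : p ≠ r) :
    lin (plusForm m F) (yN p r) (fV p) = -(eV r : Fin m ⊕ Fin m → F) := by
  unfold yN
  rw [lin_mul_apply, lin_mul_apply, xpp_fV, if_neg hpr, if_pos rfl, zero_smul, add_zero,
    one_smul, map_sub, xmm_fV, xmm_eV, if_pos rfl, if_neg (Ne.symm hpr), zero_smul, sub_zero,
    one_smul, map_sub, map_add, xpp_eV, xpp_fV, if_neg hpr, if_pos rfl, zero_smul, add_zero,
    one_smul]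
  module

/-- `e_p ↦ -f_r` -/
theorem yN_eV_neg {p r : Fin m} (hpr : p ≠ r) :
    lin (plusForm m F) (yN p r) (eV p) = -(fV r : Fin m ⊕ Fin m → F) := by
  unfold yN
  rw [lin_mul_apply, lin_mul_apply, xpp_eV, xmm_eV, if_neg hpr, if_pos rfl, zero_smul, add_zero,
    one_smul, map_sub, xpp_eV, xpp_fV, if_pos rfl, if_neg (Ne.symm hpr), zero_smul, sub_zero,
    one_smul]
  module

/-- `e_r ↦ f_p` -/
theorem yN_eV_snd {p r : Fin m} (hpr : p ≠ r) :
    lin (plusForm m F) (yN p r) (eV r) = (fV p : Fin m ⊕ Fin m → F) := by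
  unfold yN
  rw [lin_mul_apply, lin_mul_apply, xpp_eV, xmm_eV, if_pos rfl, if_neg (Ne.symm hpr), zero_smul,
    sub_zero, one_smul, map_add, xpp_eV, xpp_fV, if_neg hpr, if_pos rfl, zero_smul, add_zero,
    one_smul]
  module

/-- `f_r ↦ e_p` -/
theorem yN_fV_snd {p r : Fin m} (hpr : p ≠ r) :
    lin (plusForm m F) (yN p r) (fV r) = (eV p : Fin m ⊕ Fin m → F) := by
  unfold yN
  rw [lin_mul_apply, lin_mul_apply, xpp_fV, if_pos rfl, if_neg (Ne.symm hpr), zero_smul, sub_zero,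
    one_smul, map_add, xmm_fV, xmm_eV, if_neg hpr, if_pos rfl, zero_smul, add_zero, one_smul,
    map_add, map_sub, xpp_fV, xpp_eV, if_pos rfl, if_neg (Ne.symm hpr), zero_smul, sub_zero,
    one_smul]
  module

theorem yN_fV {p r : Fin m} (hpr : p ≠ r) :
    lin (plusForm m F) (yN p r) (fV p) = (0 : F) • fV p + (-1 : F) • eV r := by
  rw [yN_fV_neg hpr]
  module

theorem yN_eV {p r : Fin m} (hpr : p ≠ r) :
    lin (plusForm m F) (yN p r) (eV p) = (0 : F) • eV p + (-1 : F) • fV r := by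
  rw [yN_eV_neg hpr]
  module

theorem yN_pow {p r : Fin m} (hpr : p ≠ r) : (yN p r : OG m F) ^ 4 = 1 := by
  have h4 : (yN p r : OG m F) ^ 4 = yN p r * yN p r * yN p r * yN p r := by
    rw [pow_succ, pow_succ, pow_succ, pow_one]
  rw [h4]
  apply isom_ext_basis
  · intro j
    rw [lin_mul_apply, lin_mul_apply, lin_mul_apply, lin_one_apply]
    by_cases hjp : j = p
    · subst hjp
      rw [yN_eV_neg hpr, map_neg, yN_fV_snd hpr, map_neg, yN_eV_neg hpr, map_neg, map_neg,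
        yN_fV_snd hpr, neg_neg]
    · by_cases hjr : j = r
      · subst hjr
        rw [yN_eV_snd hpr, yN_fV_neg hpr, map_neg, yN_eV_snd hpr, map_neg, yN_fV_neg hpr, neg_neg]
      · rw [yN_fix_eV j hjp hjr, yN_fix_eV j hjp hjr, yN_fix_eV j hjp hjr, yN_fix_eV j hjp hjr]
  · intro j
    rw [lin_mul_apply, lin_mul_apply, lin_mul_apply, lin_one_apply]
    by_cases hjp : j = p
    · subst hjp
      rw [yN_fV_neg hpr, map_neg, yN_eV_snd hpr, map_neg, yN_fV_neg hpr, map_neg, map_neg,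
        yN_eV_snd hpr, neg_neg]
    · by_cases hjr : j = r
      · subst hjr
        rw [yN_fV_snd hpr, yN_eV_neg hpr, map_neg, yN_fV_snd hpr, map_neg, yN_eV_neg hpr, neg_neg]
      · rw [yN_fix_fV j hjp hjr, yN_fix_fV j hjp hjr, yN_fix_fV j hjp hjr, yN_fix_fV j hjp hjr]

end Cfsg.Agent.Helper40.OPlus
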