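import Cfsg.Agent.Helper40.OPlus.YDefs

/-!
# (YSTEP) for S2414 (helper40): an element `y` mixing `f_p` with `e_r` produces new root subgroups
-/

set_option autoImplicit false
set_option linter.unusedVariables false

namespace Cfsg.Agent.Helper40.OPlus

open Matrix QuadraticMap Cfsg.Agent.Helper44 Cfsg.Agent.Helper45.OmegaParity Cfsg.Agent.Helper5

variable {F : Type*} [Field F] {m : ℕ}

theorem ystep_pp (L : Subgroup (OG m F)) (y : OG m F) (hy : y ∈ L) (i p r : Fin m)
    (hip : i ≠ p) (hir : i ≠ r)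
    (hye : lin (plusForm m F) y (eV i) = eV i) (a c : F) (hc : c ≠ 0)
    (hyf : lin (plusForm m F) y (fV p) = a • fV p + c • eV r)
    (h : ∀ t : F, xpm i p t ∈ L) : ∀ t : F, xpp i r t ∈ L := by
  intro t
  set s := t / c with hs
  have hconj : y * xpm i p s * y⁻¹ = xpm i p (s * a) * xpp i r t := by
    rw [conj_xpm y hip, hye, hyf, smul_add, smul_smul, smul_smul]
    unfold xpm xpp
    rw [eichlerO_mul _ (Q_eV i) (polar_eV_fV hip _) (polar_eV_eV i r _)]
    have : s * c = t := by rw [hs]; field_simp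
    rw [this]
  have hmem : y * xpm i p s * y⁻¹ ∈ L := L.mul_mem (L.mul_mem hy (h s)) (L.inv_mem hy)
  have e : xpp i r t = (xpm i p (s * a))⁻¹ * (y * xpm i p s * y⁻¹) := by
    rw [hconj, inv_mul_cancel_left]
  rw [e]
  exact L.mul_mem (L.inv_mem (h _)) hmem

theorem ystep_mm (L : Subgroup (OG m F)) (y : OG m F) (hy : y ∈ L) (i p r : Fin m)
    (hip : i ≠ p) (hir : i ≠ r)
    (hyf : lin (plusForm m F) y (fV i) = fV i) (a c : F) (hc : c ≠ 0)
    (hye : lin (plusForm m F) y (eV p) = a • eV p + c • fV r)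
    (h : ∀ t : F, xpm p i t ∈ L) : ∀ t : F, xmm i r t ∈ L := by
  intro t
  set s := -(t / c) with hs
  have hpi : p ≠ i := hip.symm
  have hconj : y * xpm p i s * y⁻¹ = xpm p i (s * a) * xmm i r t := by
    rw [xpm_swap hpi s, eichlerO_conj _ y (Q_fV i) (polar_fV_eV hip _), hyf, map_smul, hye,
      smul_add, smul_smul, smul_smul, xpm_swap hpi (s * a)]
    unfold xmm
    rw [eichlerO_mul _ (Q_fV i) (polar_fV_eV hip _) (polar_fV_fV i r _)]
    have h1 : -s * c = t := by rw [hs]; field_simp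
    have h2 : -s * a = -(s * a) := by ring
    rw [h1, h2]
  have hmem : y * xpm p i s * y⁻¹ ∈ L := L.mul_mem (L.mul_mem hy (h s)) (L.inv_mem hy)
  have e : xmm i r t = (xpm p i (s * a))⁻¹ * (y * xpm p i s * y⁻¹) := by
    rw [hconj, inv_mul_cancel_left]
  rw [e]
  exact L.mul_mem (L.inv_mem (h _)) hmem

end Cfsg.Agent.Helper40.OPlus
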