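import Cfsg.Agent.Helper40.OPlus.YDefs

/-!
# The element `yT p r = xpp p r 1 * xmm p r 1` (helper40, piece (YT) for S2414)
-/

set_option autoImplicit false

namespace Cfsg.Agent.Helper40.OPlus

open Matrix QuadraticMap Cfsg.Agent.Helper44 Cfsg.Agent.Helper45.OmegaParity Cfsg.Agent.Helper5

variable {F : Type*} [Field F] {m : ℕ}

theorem lin_yT (p r : Fin m) (x : Fin m ⊕ Fin m → F) :
    lin (plusForm m F) (yT p r) x
      = lin (plusForm m F) (xpp p r 1) (lin (plusForm m F) (xmm p r 1) x) := by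
  unfold yT
  rw [lin_mul_apply]

theorem yT_eV_p {p r : Fin m} (hpr : p ≠ r) :
    lin (plusForm m F) (yT p r) (eV p) = -fV r := by
  rw [lin_yT, xmm_eV, if_neg hpr, if_pos rfl, zero_smul, add_zero, one_smul, map_sub, xpp_eV, xpp_fV,
    if_pos rfl, if_neg hpr.symm, one_smul, zero_smul, sub_zero]
  abel

theorem yT_eV_r {p r : Fin m} (hpr : p ≠ r) :
    lin (plusForm m F) (yT p r) (eV r) = fV p := by
  rw [lin_yT, xmm_eV, if_pos rfl, if_neg hpr.symm, zero_smul, sub_zero, one_smul, map_add, xpp_eV, xpp_fV,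
    if_neg hpr, if_pos rfl, one_smul, zero_smul, add_zero]
  abel

theorem yT_fV_p {p r : Fin m} (hpr : p ≠ r) :
    lin (plusForm m F) (yT p r) (fV p) = fV p - eV r := by
  rw [lin_yT, xmm_fV, xpp_fV, if_neg hpr, if_pos rfl, zero_smul, add_zero, one_smul]

theorem yT_fV_r {p r : Fin m} (hpr : p ≠ r) :
    lin (plusForm m F) (yT p r) (fV r) = fV r + eV p := by
  rw [lin_yT, xmm_fV, xpp_fV, if_pos rfl, if_neg hpr.symm, zero_smul, sub_zero, one_smul]

theorem yT_fix_eV {p r : Fin m} (j : Fin m) (hp : j ≠ p) (hr : j ≠ r) :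
    lin (plusForm m F) (yT p r) (eV j) = eV j := by
  rw [lin_yT, xmm_eV, if_neg hr, if_neg hp, zero_smul, zero_smul, add_zero, sub_zero, xpp_eV]

theorem yT_fix_fV {p r : Fin m} (j : Fin m) (hp : j ≠ p) (hr : j ≠ r) :
    lin (plusForm m F) (yT p r) (fV j) = fV j := by
  rw [lin_yT, xmm_fV, xpp_fV, if_neg hr, if_neg hp, zero_smul, zero_smul, add_zero, sub_zero]

theorem yT_fV {p r : Fin m} (hpr : p ≠ r) :
    lin (plusForm m F) (yT p r) (fV p) = (1 : F) • fV p + (-1 : F) • eV r := by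
  rw [yT_fV_p hpr, one_smul, neg_smul, one_smul, sub_eq_add_neg]

theorem yT_eV {p r : Fin m} (hpr : p ≠ r) :
    lin (plusForm m F) (yT p r) (eV p) = (0 : F) • eV p + (-1 : F) • fV r := by
  rw [yT_eV_p hpr, zero_smul, zero_add, neg_smul, one_smul]

theorem yT_pow {p r : Fin m} (hpr : p ≠ r) (h2 : (2 : F) = 0) : (yT p r : OG m F) ^ 3 = 1 := by
  have h3 : ∀ x : Fin m ⊕ Fin m → F, lin (plusForm m F) ((yT p r : OG m F) ^ 3) x
      = lin (plusForm m F) (yT p r) (lin (plusForm m F) (yT p r) (lin (plusForm m F) (yT p r) x)) := by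
    intro x
    rw [pow_succ, pow_succ, pow_one, lin_mul_apply, lin_mul_apply]
  have fin : ∀ a b : Fin m ⊕ Fin m → F, a = b + (2 : F) • (-b) → a = b := by
    intro a b h
    rw [h, h2, zero_smul, add_zero]
  apply isom_ext_basis
  · intro j
    rw [h3, lin_one_apply]
    by_cases hjp : j = p
    · subst hjp
      rw [yT_eV_p hpr, map_neg, yT_fV_r hpr, map_neg, map_add, yT_fV_r hpr, yT_eV_p hpr]
      apply fin
      module
    · by_cases hjr : j = r
      · subst hjr
        rw [yT_eV_r hpr, yT_fV_p hpr, map_sub, yT_fV_p hpr, yT_eV_r hpr]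
        apply fin
        module
      · rw [yT_fix_eV j hjp hjr, yT_fix_eV j hjp hjr, yT_fix_eV j hjp hjr]
  · intro j
    rw [h3, lin_one_apply]
    by_cases hjp : j = p
    · subst hjp
      rw [yT_fV_p hpr, map_sub, yT_fV_p hpr, yT_eV_r hpr, map_sub, map_sub, yT_fV_p hpr, yT_eV_r hpr]
      apply fin
      module
    · by_cases hjr : j = r
      · subst hjr
        rw [yT_fV_r hpr, map_add, yT_fV_r hpr, yT_eV_p hpr, map_add, map_add, yT_fV_r hpr, yT_eV_p hpr,
          map_neg, yT_fV_r hpr]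
        apply fin
        module
      · rw [yT_fix_fV j hjp hjr, yT_fix_fV j hjp hjr, yT_fix_fV j hjp hjr]

end Cfsg.Agent.Helper40.OPlus
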