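import Cfsg.Agent.Helper40.OPlus.YDefs

/-!
# (YU) the unipotent element `yU p r = xmm p r 1 * xpp p r 1 * xmm p r (-1)` (piece for S2414; by helper48)
-/

set_option autoImplicit false

namespace Cfsg.Agent.Helper40.OPlus

open Matrix QuadraticMap Cfsg.Agent.Helper44 Cfsg.Agent.Helper45.OmegaParity Cfsg.Agent.Helper5

variable {F : Type*} [Field F] {m : ℕ}

theorem yU_fix_eV {p r : Fin m} (j : Fin m) (hp : j ≠ p) (hr : j ≠ r) :
    lin (plusForm m F) (yU p r) (eV j) = eV j := by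
  unfold yU
  rw [lin_mul_apply, lin_mul_apply, xmm_eV, if_neg hr, if_neg hp, zero_smul, zero_smul, add_zero,
    sub_zero, xpp_eV, xmm_eV, if_neg hr, if_neg hp, zero_smul, zero_smul, add_zero, sub_zero]

theorem yU_fix_fV {p r : Fin m} (j : Fin m) (hp : j ≠ p) (hr : j ≠ r) :
    lin (plusForm m F) (yU p r) (fV j) = fV j := by
  unfold yU
  rw [lin_mul_apply, lin_mul_apply, xmm_fV, xpp_fV, if_neg hr, if_neg hp, zero_smul, zero_smul,
    add_zero, sub_zero, xmm_fV]

theorem yU_fV {p r : Fin m} (hpr : p ≠ r) :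
    lin (plusForm m F) (yU p r) (fV p) = (0 : F) • fV p + (-1 : F) • eV r := by
  unfold yU
  rw [lin_mul_apply, lin_mul_apply, xmm_fV, xpp_fV, if_neg hpr, if_pos rfl, zero_smul, add_zero,
    one_smul, map_sub, xmm_fV, xmm_eV, if_pos rfl, if_neg (Ne.symm hpr), zero_smul, sub_zero,
    one_smul]
  module

theorem yU_eV {p r : Fin m} (hpr : p ≠ r) :
    lin (plusForm m F) (yU p r) (eV p) = (2 : F) • eV p + (-1 : F) • fV r := by
  unfold yU
  rw [lin_mul_apply, lin_mul_apply, xmm_eV, if_neg hpr, if_pos rfl, zero_smul, add_zero,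
    map_sub, map_smul, xpp_eV, xpp_fV, if_pos rfl, if_neg (Ne.symm hpr), zero_smul, sub_zero,
    one_smul, map_sub, map_smul, map_add, xmm_eV, xmm_fV, if_neg hpr, if_pos rfl, zero_smul,
    add_zero, one_smul]
  module

theorem yU_pow {p r : Fin m} (n : ℕ) (hn : (n : F) = 0) : (yU p r : OG m F) ^ n = 1 := by
  have h : (yU p r : OG m F) = xmm p r 1 * xpp p r 1 * (xmm p r 1)⁻¹ := by
    unfold yU
    rw [xmm_inv]
  rw [h, conj_pow, xpp_pow, hn, zero_mul, xpp_zero, mul_one, mul_inv_cancel]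

end Cfsg.Agent.Helper40.OPlus
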