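import Cfsg.Agent.Helper40.OPlus.Crit
import Cfsg.Agent.Helper40.OPlus.Iota
import Cfsg.Agent.Helper40.OPlus.Spread
import Cfsg.Agent.Helper40.OPlus.SLEx
import Cfsg.Agent.Helper40.OPlus.YStep
import Cfsg.Agent.Helper40.OPlus.YU
import Cfsg.Agent.Helper40.OPlus.YN
import Cfsg.Agent.Helper40.OPlus.YT
import Cfsg.Agent.Helper18.Gen.Abs
import Cfsg.Agent.S2402
import Cfsg.Agent.S2403

set_option autoImplicit false

namespace Cfsg.Agent.Helper40.OPlus

open Matrix QuadraticMap Cfsg.Agent.Helper44 Cfsg.Agent.Helper45.OmegaParity Cfsg.Agent.Helper5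

variable {F : Type*} [Field F] {m : ℕ}

/-- the general generation lemma -/
theorem gen_of [Fintype F] (hm : 4 ≤ m) (A B : Matrix.SpecialLinearGroup (Fin m) F)
    (hAB : Subgroup.closure ({A, B} : Set (Matrix.SpecialLinearGroup (Fin m) F)) = ⊤)
    (y : OG m F) (hcomm : Commute (iota A) y) (n₁ n₂ : ℕ) (h1 : iota A ^ n₁ = 1) (h2 : y ^ n₂ = 1)
    (hcop : Nat.Coprime n₁ n₂) (i p r : Fin m) (hip : i ≠ p) (hir : i ≠ r)
    (hye : lin (plusForm m F) y (eV i) = eV i) (hyf : lin (plusForm m F) y (fV i) = fV i)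
    (a c : F) (hc : c ≠ 0) (hyfp : lin (plusForm m F) y (fV p) = a • fV p + c • eV r)
    (a' c' : F) (hc' : c' ≠ 0) (hyep : lin (plusForm m F) y (eV p) = a' • eV p + c' • fV r)
    (L : Subgroup (OG m F)) (ha : iota A * y ∈ L) (hb : iota B ∈ L) :
    Cfsg.Omega F ⇑(plusForm m F) ≤ L := by
  obtain ⟨hA, hy⟩ := Cfsg.Agent.Helper18.Gen.mem_of_mul_mem_coprime L (iota A) y hcomm n₁ n₂ h1 h2 hcop ha
  -- `iota (SL_m) ≤ L`
  have hSL : ∀ g : Matrix.SpecialLinearGroup (Fin m) F, iota g ∈ L := by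
    intro g
    have hg : g ∈ Subgroup.closure ({A, B} : Set (Matrix.SpecialLinearGroup (Fin m) F)) := by
      rw [hAB]; exact Subgroup.mem_top _
    have : Subgroup.closure ({A, B} : Set (Matrix.SpecialLinearGroup (Fin m) F)) ≤ L.comap iota := by
      rw [Subgroup.closure_le]
      intro z hz
      rcases hz with rfl | rfl
      · exact hA
      · exact hb
    exact this hg
  have hpm : ∀ i j : Fin m, i ≠ j → ∀ t : F, xpm i j t ∈ L := by
    intro i j hij t
    rw [← iota_transvection hij t]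
    exact hSL _
  have hpp0 := ystep_pp L y hy i p r hip hir hye a c hc hyfp (hpm i p hip)
  have hpp := spread_pp (by omega) L hpm i r hir hpp0
  have hmm0 := ystep_mm L y hy i p r hip hir hyf a' c' hc' hyep (hpm p i hip.symm)
  have hmm := spread_mm (by omega) L hpm i r hir hmm0
  exact crit (by omega) L hpp hpm hmm

/-- from "every subgroup containing `g1, g2` contains `Ω`" to two generators of `PΩ` -/
theorem two_gen_PO (g1 g2 : OG m F) (h1 : g1 ∈ Cfsg.Omega F ⇑(plusForm m F))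
    (h2 : g2 ∈ Cfsg.Omega F ⇑(plusForm m F))
    (h : ∀ L : Subgroup (OG m F), g1 ∈ L → g2 ∈ L → Cfsg.Omega F ⇑(plusForm m F) ≤ L) :
    ∃ a b : Cfsg.POmega F (Cfsg.quadFormPlus m F),
      Subgroup.closure ({a, b} : Set (Cfsg.POmega F (Cfsg.quadFormPlus m F))) = ⊤ := by
  set Ω := Cfsg.Omega F ⇑(plusForm m F) with hΩ
  set L := Subgroup.closure ({⟨g1, h1⟩, ⟨g2, h2⟩} : Set ↥Ω) with hL
  have ha : (⟨g1, h1⟩ : ↥Ω) ∈ L := Subgroup.subset_closure (by simp)
  have hb : (⟨g2, h2⟩ : ↥Ω) ∈ L := Subgroup.subset_closure (by simp)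
  have hle := h (L.map Ω.subtype) ⟨_, ha, rfl⟩ ⟨_, hb, rfl⟩
  have htop : L = ⊤ := by
    rw [eq_top_iff]
    intro x _
    obtain ⟨y, hy, hyx⟩ := hle x.2
    have : y = x := Subtype.ext hyx
    rw [← this]
    exact hy
  refine ⟨QuotientGroup.mk' (Subgroup.center ↥Ω) ⟨g1, h1⟩, QuotientGroup.mk' (Subgroup.center ↥Ω) ⟨g2, h2⟩, ?_⟩
  have himg : Subgroup.map (QuotientGroup.mk' (Subgroup.center ↥Ω)) L = ⊤ := by
    rw [htop, ← MonoidHom.range_eq_map]
    exact MonoidHom.range_eq_top.2 (QuotientGroup.mk'_surjective _)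
  rw [hL, MonoidHom.map_closure, Set.image_pair] at himg
  exact himg

/-! ### the three cases -/

section cases

variable [Fintype F] {n : ℕ}

omit [Fintype F] in
/-- `iota (T_01(1))` fixes `e_j`, `f_j` for `j ≥ 2` -/
theorem iota_x_fix (hn : 3 ≤ n) (x : Matrix.SpecialLinearGroup (Fin (n + 1)) F)
    (hx : (x : Matrix (Fin (n + 1)) (Fin (n + 1)) F) = Matrix.transvection (0 : Fin (n + 1)) (1 : Fin (n + 1)) 1)
    (j : Fin (n + 1)) (hj : 2 ≤ j.val) :
    lin (plusForm (n + 1) F) (iota x) (eV j) = eV j ∧ lin (plusForm (n + 1) F) (iota x) (fV j) = fV j := by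
  have h1 : (1 : Fin (n + 1)).val = 1 := by
    rw [Fin.val_one']; exact Nat.mod_eq_of_lt (by omega)
  have hj1 : j ≠ 1 := by
    intro h; rw [h, h1] at hj; omega
  have hj0 : j ≠ 0 := by
    intro h; rw [h, Fin.val_zero] at hj; omega
  constructor
  · apply lin_iota_eV_fix
    intro i
    rw [hx, Matrix.transvection, Matrix.add_apply, Matrix.single_apply,
      if_neg (fun h => hj1 h.2.symm), add_zero, Matrix.one_apply]
  · apply lin_iota_fV_fix
    intro i
    rw [hx, Matrix.transvection, Matrix.add_apply, Matrix.single_apply,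
      if_neg (fun h => hj0 h.1.symm), add_zero, Matrix.one_apply]
    by_cases h : i = j
    · rw [if_pos h, if_pos h.symm]
    · rw [if_neg h, if_neg (fun h' => h h'.symm)]

omit [Fintype F] in
/-- `iota (diag (k, k⁻¹, 1, …, 1))` fixes `e_j`, `f_j` for `j ≥ 2` -/
theorem iota_h_fix (k : Fˣ) (h : Matrix.SpecialLinearGroup (Fin (n + 1)) F)
    (hh : (h : Matrix (Fin (n + 1)) (Fin (n + 1)) F) = Matrix.diagonal
        (fun i => if i.val = 0 then (k : F) else if i.val = 1 then ((k⁻¹ : Fˣ) : F) else 1))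
    (j : Fin (n + 1)) (hj : 2 ≤ j.val) :
    lin (plusForm (n + 1) F) (iota h) (eV j) = eV j ∧ lin (plusForm (n + 1) F) (iota h) (fV j) = fV j := by
  have hd : (if j.val = 0 then (k : F) else if j.val = 1 then ((k⁻¹ : Fˣ) : F) else 1) = 1 := by
    rw [if_neg (by omega), if_neg (by omega)]
  constructor
  · apply lin_iota_eV_fix
    intro i
    rw [hh, Matrix.diagonal_apply]
    by_cases hij : i = j
    · subst hij; rw [if_pos rfl, if_pos rfl, hd]
    · rw [if_neg hij, if_neg hij]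
  · apply lin_iota_fV_fix
    intro i
    rw [hh, Matrix.diagonal_apply]
    by_cases hij : j = i
    · subst hij; rw [if_pos rfl, if_pos rfl, hd]
    · rw [if_neg hij, if_neg (fun h' => hij h'.symm)]

theorem case_big (hF : 3 < Fintype.card F) (hn : 3 ≤ n) :
    ∃ g1 g2 : OG (n + 1) F, g1 ∈ Cfsg.Omega F ⇑(plusForm (n + 1) F) ∧
      g2 ∈ Cfsg.Omega F ⇑(plusForm (n + 1) F) ∧
      ∀ L : Subgroup (OG (n + 1) F), g1 ∈ L → g2 ∈ L → Cfsg.Omega F ⇑(plusForm (n + 1) F) ≤ L := by
  obtain ⟨k, hk⟩ := IsCyclic.exists_generator (α := Fˣ)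
  obtain ⟨h, hh⟩ := exists_h k n (by omega)
  obtain ⟨w, hw⟩ := exists_w F n
  have h01 : (0 : Fin (n + 1)) ≠ 1 := by
    intro h'
    have := congrArg Fin.val h'
    rw [Fin.val_zero, Fin.val_one'] at this
    rw [Nat.mod_eq_of_lt (by omega)] at this
    omega
  set x := Matrix.SpecialLinearGroup.transvection h01 (1 : F) with hxdef
  have hx : (x : Matrix (Fin (n + 1)) (Fin (n + 1)) F) = Matrix.transvection (0 : Fin (n + 1)) (1 : Fin (n + 1)) 1 := rfl
  have hAB := Cfsg.Agent.S2402.main hF n (by omega) k hk h x w hh hx hw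
  set p : Fin (n + 1) := ⟨2, by omega⟩ with hp
  set r : Fin (n + 1) := ⟨3, by omega⟩ with hr
  have h0p : (0 : Fin (n + 1)) ≠ p := by
    intro h'; have := congrArg Fin.val h'; rw [Fin.val_zero] at this; simp [hp] at this
  have h0r : (0 : Fin (n + 1)) ≠ r := by
    intro h'; have := congrArg Fin.val h'; rw [Fin.val_zero] at this; simp [hr] at this
  have hpr : p ≠ r := by
    intro h'; have := congrArg Fin.val h'; simp [hp, hr] at this
  have hm : 4 ≤ n + 1 := by omega
  refine ⟨iota h * yU p r, iota (x * w), mul_mem (iota_mem_Omega (by omega) _) (yU_mem_Omega (by omega) _ _),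
    iota_mem_Omega (by omega) _, ?_⟩
  intro L h1 h2
  have hcomm : Commute (iota h) (yU p r : OG (n + 1) F) :=
    commute_yU _ p r (iota_h_fix k h hh p (by simp [hp])).1 (iota_h_fix k h hh r (by simp [hr])).1
      (iota_h_fix k h hh p (by simp [hp])).2 (iota_h_fix k h hh r (by simp [hr])).2
  have hpow1 : (iota h : OG (n + 1) F) ^ (Fintype.card F - 1) = 1 := by
    rw [← map_pow, diag_pow_card_sub_one h _ _ hh, map_one]
    intro i
    split_ifs
    · exact k.ne_zero
    · exact (k⁻¹).ne_zero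
    · exact one_ne_zero
  have hpow2 : (yU p r : OG (n + 1) F) ^ (Fintype.card F) = 1 := yU_pow _ (Nat.cast_card_eq_zero F)
  have hcop : Nat.Coprime (Fintype.card F - 1) (Fintype.card F) := by
    have : Fintype.card F - 1 + 1 = Fintype.card F := by omega
    rw [← this]
    simp
  exact gen_of hm h (x * w) hAB (yU p r) hcomm _ _ hpow1 hpow2 hcop 0 p r h0p h0r
    (yU_fix_eV 0 h0p h0r) (yU_fix_fV 0 h0p h0r) 0 (-1) (neg_ne_zero.2 one_ne_zero) (yU_fV hpr)
    2 (-1) (neg_ne_zero.2 one_ne_zero) (yU_eV hpr) L h1 h2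

theorem case_small (hF : Fintype.card F ≤ 3) (hn : 3 ≤ n) :
    ∃ g1 g2 : OG (n + 1) F, g1 ∈ Cfsg.Omega F ⇑(plusForm (n + 1) F) ∧
      g2 ∈ Cfsg.Omega F ⇑(plusForm (n + 1) F) ∧
      ∀ L : Subgroup (OG (n + 1) F), g1 ∈ L → g2 ∈ L → Cfsg.Omega F ⇑(plusForm (n + 1) F) ≤ L := by
  obtain ⟨w, hw⟩ := exists_w F n
  have h01 : (0 : Fin (n + 1)) ≠ 1 := by
    intro h'
    have := congrArg Fin.val h'
    rw [Fin.val_zero, Fin.val_one'] at this
    rw [Nat.mod_eq_of_lt (by omega)] at this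
    omega
  set x := Matrix.SpecialLinearGroup.transvection h01 (1 : F) with hxdef
  have hx : (x : Matrix (Fin (n + 1)) (Fin (n + 1)) F) = Matrix.transvection (0 : Fin (n + 1)) (1 : Fin (n + 1)) 1 := rfl
  have hAB := Cfsg.Agent.S2403.gen_top hF (by omega) x w hx hw
  set p : Fin (n + 1) := ⟨2, by omega⟩ with hp
  set r : Fin (n + 1) := ⟨3, by omega⟩ with hr
  have h0p : (0 : Fin (n + 1)) ≠ p := by
    intro h'; have := congrArg Fin.val h'; rw [Fin.val_zero] at this; simp [hp] at this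
  have h0r : (0 : Fin (n + 1)) ≠ r := by
    intro h'; have := congrArg Fin.val h'; rw [Fin.val_zero] at this; simp [hr] at this
  have hpr : p ≠ r := by
    intro h'; have := congrArg Fin.val h'; simp [hp, hr] at this
  have hm : 4 ≤ n + 1 := by omega
  have hxpm : (iota x : OG (n + 1) F) = xpm 0 1 1 := iota_transvection h01 1
  have hcard : Fintype.card F = 2 ∨ Fintype.card F = 3 := by
    have := Fintype.one_lt_card (α := F)
    omega
  rcases hcard with h2 | h3
  · -- `|F| = 2`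
    have h20 : (2 : F) = 0 := by
      have := Nat.cast_card_eq_zero F
      rw [h2] at this
      exact_mod_cast this
    refine ⟨iota x * yT p r, iota w, mul_mem (iota_mem_Omega (by omega) _) (yT_mem_Omega (by omega) _ _),
      iota_mem_Omega (by omega) _, ?_⟩
    intro L h1 h2'
    have hcomm : Commute (iota x) (yT p r : OG (n + 1) F) :=
      commute_yT _ p r (iota_x_fix hn x hx p (by simp [hp])).1 (iota_x_fix hn x hx r (by simp [hr])).1
        (iota_x_fix hn x hx p (by simp [hp])).2 (iota_x_fix hn x hx r (by simp [hr])).2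
    have hpow1 : (iota x : OG (n + 1) F) ^ 2 = 1 := by
      rw [hxpm, xpm_pow h01, Nat.cast_ofNat, h20, zero_mul, xpm_zero]
    exact gen_of hm x w hAB (yT p r) hcomm 2 3 hpow1 (yT_pow hpr h20) (by decide) 0 p r h0p h0r
      (yT_fix_eV 0 h0p h0r) (yT_fix_fV 0 h0p h0r) 1 (-1) (neg_ne_zero.2 one_ne_zero) (yT_fV hpr)
      0 (-1) (neg_ne_zero.2 one_ne_zero) (yT_eV hpr) L h1 h2'
  · -- `|F| = 3`
    have h30 : (3 : F) = 0 := by
      have := Nat.cast_card_eq_zero F
      rw [h3] at this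
      exact_mod_cast this
    refine ⟨iota x * yN p r, iota w, mul_mem (iota_mem_Omega (by omega) _) (yN_mem_Omega (by omega) _ _),
      iota_mem_Omega (by omega) _, ?_⟩
    intro L h1 h2'
    have hcomm : Commute (iota x) (yN p r : OG (n + 1) F) :=
      commute_yN _ p r (iota_x_fix hn x hx p (by simp [hp])).1 (iota_x_fix hn x hx r (by simp [hr])).1
        (iota_x_fix hn x hx p (by simp [hp])).2 (iota_x_fix hn x hx r (by simp [hr])).2
    have hpow1 : (iota x : OG (n + 1) F) ^ 3 = 1 := by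
      rw [hxpm, xpm_pow h01, Nat.cast_ofNat, h30, zero_mul, xpm_zero]
    exact gen_of hm x w hAB (yN p r) hcomm 3 4 hpow1 (yN_pow hpr) (by decide) 0 p r h0p h0r
      (yN_fix_eV 0 h0p h0r) (yN_fix_fV 0 h0p h0r) 0 (-1) (neg_ne_zero.2 one_ne_zero) (yN_fV hpr)
      0 (-1) (neg_ne_zero.2 one_ne_zero) (yN_eV hpr) L h1 h2'

/-- **`PΩ⁺_{2m}(q)`, `m ≥ 4`, is generated by two elements.** -/
theorem two_generated (hm : 4 ≤ m) :
    ∃ a b : Cfsg.POmega F (Cfsg.quadFormPlus m F),
      Subgroup.closure ({a, b} : Set (Cfsg.POmega F (Cfsg.quadFormPlus m F))) = ⊤ := by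
  obtain ⟨n, rfl⟩ : ∃ n, m = n + 1 := ⟨m - 1, by omega⟩
  by_cases hF : 3 < Fintype.card F
  · obtain ⟨g1, g2, h1, h2, h⟩ := case_big hF (n := n) (by omega)
    exact two_gen_PO g1 g2 h1 h2 h
  · obtain ⟨g1, g2, h1, h2, h⟩ := case_small (F := F) (by omega) (n := n) (by omega)
    exact two_gen_PO g1 g2 h1 h2 h

end cases

end Cfsg.Agent.Helper40.OPlus
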