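import Cfsg.Agent.Helper40.OPlus.Defs

/-!
# The root elements `xpp`, `xpm`, `xmm` of `Ω⁺_{2m}` (helper40, for S2414): action and relations
-/

set_option autoImplicit false

namespace Cfsg.Agent.Helper40.OPlus

open Matrix QuadraticMap Cfsg.Agent.Helper44 Cfsg.Agent.Helper45.OmegaParity Cfsg.Agent.Helper5

variable {F : Type*} [Field F] {m : ℕ}

theorem polar_eV_eV (i j : Fin m) (t : F) : polar ⇑(plusForm m F) (eV i) (t • eV j) = 0 := by
  rw [polar_eV, Pi.smul_apply, eV_inr, smul_zero]

theorem polar_fV_fV (i j : Fin m) (t : F) : polar ⇑(plusForm m F) (fV i) (t • fV j) = 0 := by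
  rw [polar_fV, Pi.smul_apply, fV_inl, smul_zero]

theorem polar_eV_fV {i j : Fin m} (hij : i ≠ j) (t : F) : polar ⇑(plusForm m F) (eV i) (t • fV j) = 0 := by
  rw [polar_eV, Pi.smul_apply, fV_inr, if_neg hij, smul_zero]

theorem polar_fV_eV {i j : Fin m} (hij : i ≠ j) (t : F) : polar ⇑(plusForm m F) (fV i) (t • eV j) = 0 := by
  rw [polar_fV, Pi.smul_apply, eV_inl, if_neg hij, smul_zero]

theorem Q_smul_eV (i : Fin m) (t : F) : plusForm m F (t • eV i) = 0 := by
  rw [QuadraticMap.map_smul, Q_eV, smul_zero]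

theorem Q_smul_fV (i : Fin m) (t : F) : plusForm m F (t • fV i) = 0 := by
  rw [QuadraticMap.map_smul, Q_fV, smul_zero]

theorem lin_xpp (i j : Fin m) (t : F) (x : Fin m ⊕ Fin m → F) :
    lin (plusForm m F) (xpp i j t) x
      = x + (t * x (Sum.inr j)) • eV i - (t * x (Sum.inr i)) • eV j := by
  unfold xpp
  rw [lin_eichlerO _ (Q_eV i) (polar_eV_eV i j t), Q_smul_eV, zero_mul, zero_smul, sub_zero,
    QuadraticMap.polar_smul_left, polar_eV, polar_eV, smul_eq_mul, smul_smul, mul_comm (x (Sum.inr i)) t]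

theorem lin_xpm {i j : Fin m} (hij : i ≠ j) (t : F) (x : Fin m ⊕ Fin m → F) :
    lin (plusForm m F) (xpm i j t) x
      = x + (t * x (Sum.inl j)) • eV i - (t * x (Sum.inr i)) • fV j := by
  unfold xpm
  rw [lin_eichlerO _ (Q_eV i) (polar_eV_fV hij t), Q_smul_fV, zero_mul, zero_smul, sub_zero,
    QuadraticMap.polar_smul_left, polar_fV, polar_eV, smul_eq_mul, smul_smul, mul_comm (x (Sum.inr i)) t]

theorem lin_xmm (i j : Fin m) (t : F) (x : Fin m ⊕ Fin m → F) :
    lin (plusForm m F) (xmm i j t) x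
      = x + (t * x (Sum.inl j)) • fV i - (t * x (Sum.inl i)) • fV j := by
  unfold xmm
  rw [lin_eichlerO _ (Q_fV i) (polar_fV_fV i j t), Q_smul_fV, zero_mul, zero_smul, sub_zero,
    QuadraticMap.polar_smul_left, polar_fV, polar_fV, smul_eq_mul, smul_smul, mul_comm (x (Sum.inl i)) t]

theorem xpp_add (i j : Fin m) (s t : F) : xpp i j s * xpp i j t = xpp i j (s + t) := by
  unfold xpp
  rw [eichlerO_mul _ (Q_eV i) (polar_eV_eV i j s) (polar_eV_eV i j t), add_smul]

theorem xpm_add {i j : Fin m} (hij : i ≠ j) (s t : F) : xpm i j s * xpm i j t = xpm i j (s + t) := by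
  unfold xpm
  rw [eichlerO_mul _ (Q_eV i) (polar_eV_fV hij s) (polar_eV_fV hij t), add_smul]

theorem xmm_add (i j : Fin m) (s t : F) : xmm i j s * xmm i j t = xmm i j (s + t) := by
  unfold xmm
  rw [eichlerO_mul _ (Q_fV i) (polar_fV_fV i j s) (polar_fV_fV i j t), add_smul]

theorem xpp_zero (i j : Fin m) : xpp i j (0 : F) = 1 := by
  unfold xpp
  rw [zero_smul, eichlerO_zero]

theorem xpm_zero (i j : Fin m) : xpm i j (0 : F) = 1 := by
  unfold xpm
  rw [zero_smul, eichlerO_zero]

theorem xmm_zero (i j : Fin m) : xmm i j (0 : F) = 1 := by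
  unfold xmm
  rw [zero_smul, eichlerO_zero]

theorem xpp_inv (i j : Fin m) (t : F) : (xpp i j t)⁻¹ = xpp i j (-t) := by
  rw [inv_eq_iff_mul_eq_one, xpp_add, add_neg_cancel, xpp_zero]

theorem xpm_inv {i j : Fin m} (hij : i ≠ j) (t : F) : (xpm i j t)⁻¹ = xpm i j (-t) := by
  rw [inv_eq_iff_mul_eq_one, xpm_add hij, add_neg_cancel, xpm_zero]

theorem xmm_inv (i j : Fin m) (t : F) : (xmm i j t)⁻¹ = xmm i j (-t) := by
  rw [inv_eq_iff_mul_eq_one, xmm_add, add_neg_cancel, xmm_zero]

theorem xpp_pow (i j : Fin m) (t : F) (n : ℕ) : xpp i j t ^ n = xpp i j ((n : F) * t) := by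
  induction n with
  | zero => rw [pow_zero, Nat.cast_zero, zero_mul, xpp_zero]
  | succ n ih => rw [pow_succ, ih, xpp_add, Nat.cast_succ, add_mul, one_mul]

theorem xpm_pow {i j : Fin m} (hij : i ≠ j) (t : F) (n : ℕ) : xpm i j t ^ n = xpm i j ((n : F) * t) := by
  induction n with
  | zero => rw [pow_zero, Nat.cast_zero, zero_mul, xpm_zero]
  | succ n ih => rw [pow_succ, ih, xpm_add hij, Nat.cast_succ, add_mul, one_mul]

theorem xmm_pow (i j : Fin m) (t : F) (n : ℕ) : xmm i j t ^ n = xmm i j ((n : F) * t) := by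
  induction n with
  | zero => rw [pow_zero, Nat.cast_zero, zero_mul, xmm_zero]
  | succ n ih => rw [pow_succ, ih, xmm_add, Nat.cast_succ, add_mul, one_mul]

/-- `E(u, w) = E(w, -u)` for singular `u`, `w` with `B(u, w) = 0` -/
theorem eichlerO_swap {u w : Fin m ⊕ Fin m → F} (hu : plusForm m F u = 0) (hw : plusForm m F w = 0)
    (huw : polar ⇑(plusForm m F) u w = 0) :
    eichlerO (plusForm m F) u w = eichlerO (plusForm m F) w (-u) := by
  have hwu : polar ⇑(plusForm m F) w (-u) = 0 := by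
    rw [QuadraticMap.polar_neg_right, QuadraticMap.polar_comm, huw, neg_zero]
  apply isom_ext
  intro x
  rw [lin_eichlerO _ hu huw, lin_eichlerO _ hw hwu, hw, QuadraticMap.map_neg, hu,
    QuadraticMap.polar_neg_left]
  simp only [zero_mul, zero_smul, sub_zero, neg_smul, smul_neg, sub_neg_eq_add]
  abel

/-- `E(e_i, t e_j) = E(e_j, -t e_i)` -/
theorem xpp_symm (i j : Fin m) (t : F) : xpp i j t = xpp j i (-t) := by
  unfold xpp
  rw [eichlerO_swap (Q_eV i) (Q_smul_eV j t) (polar_eV_eV i j t),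
    eichlerO_smul_left _ (Q_eV j) (by rw [polar_eV, Pi.neg_apply, eV_inr, neg_zero]) t,
    smul_neg, neg_smul]

theorem xmm_symm (i j : Fin m) (t : F) : xmm i j t = xmm j i (-t) := by
  unfold xmm
  rw [eichlerO_swap (Q_fV i) (Q_smul_fV j t) (polar_fV_fV i j t),
    eichlerO_smul_left _ (Q_fV j) (by rw [polar_fV, Pi.neg_apply, fV_inl, neg_zero]) t,
    smul_neg, neg_smul]

/-- `E(e_i, t f_j) = E(f_j, -t e_i)` -/
theorem xpm_swap {i j : Fin m} (hij : i ≠ j) (t : F) :
    xpm i j t = eichlerO (plusForm m F) (fV j) ((-t) • eV i) := by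
  unfold xpm
  rw [eichlerO_swap (Q_eV i) (Q_smul_fV j t) (polar_eV_fV hij t),
    eichlerO_smul_left _ (Q_fV j) (by rw [polar_fV, Pi.neg_apply, eV_inl, if_neg hij.symm, neg_zero]) t,
    smul_neg, neg_smul]

/-- conjugation of the root elements -/
theorem conj_xpp (g : OG m F) (i j : Fin m) (t : F) :
    g * xpp i j t * g⁻¹
      = eichlerO (plusForm m F) (lin (plusForm m F) g (eV i)) (t • lin (plusForm m F) g (eV j)) := by
  unfold xpp
  rw [eichlerO_conj _ g (Q_eV i) (polar_eV_eV i j t), map_smul]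

theorem conj_xpm (g : OG m F) {i j : Fin m} (hij : i ≠ j) (t : F) :
    g * xpm i j t * g⁻¹
      = eichlerO (plusForm m F) (lin (plusForm m F) g (eV i)) (t • lin (plusForm m F) g (fV j)) := by
  unfold xpm
  rw [eichlerO_conj _ g (Q_eV i) (polar_eV_fV hij t), map_smul]

theorem conj_xmm (g : OG m F) (i j : Fin m) (t : F) :
    g * xmm i j t * g⁻¹
      = eichlerO (plusForm m F) (lin (plusForm m F) g (fV i)) (t • lin (plusForm m F) g (fV j)) := by
  unfold xmm
  rw [eichlerO_conj _ g (Q_fV i) (polar_fV_fV i j t), map_smul]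

/-- the values of the root elements on the basis vectors -/
theorem xpp_eV (i j k : Fin m) (t : F) : lin (plusForm m F) (xpp i j t) (eV k) = eV k := by
  rw [lin_xpp, eV_inr, eV_inr, mul_zero, zero_smul, zero_smul, add_zero, sub_zero]

theorem xmm_fV (i j k : Fin m) (t : F) : lin (plusForm m F) (xmm i j t) (fV k) = fV k := by
  rw [lin_xmm, fV_inl, fV_inl, mul_zero, zero_smul, zero_smul, add_zero, sub_zero]

theorem xpp_fV (i j k : Fin m) (t : F) :
    lin (plusForm m F) (xpp i j t) (fV k)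
      = fV k + (if k = j then t else 0) • eV i - (if k = i then t else 0) • eV j := by
  rw [lin_xpp, fV_inr, fV_inr]
  congr 2
  · by_cases h : j = k
    · rw [if_pos h, if_pos h.symm, mul_one]
    · rw [if_neg h, if_neg (fun h' => h h'.symm), mul_zero]
  · by_cases h : i = k
    · rw [if_pos h, if_pos h.symm, mul_one]
    · rw [if_neg h, if_neg (fun h' => h h'.symm), mul_zero]

theorem xmm_eV (i j k : Fin m) (t : F) :
    lin (plusForm m F) (xmm i j t) (eV k)
      = eV k + (if k = j then t else 0) • fV i - (if k = i then t else 0) • fV j := by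
  rw [lin_xmm, eV_inl, eV_inl]
  congr 2
  · by_cases h : j = k
    · rw [if_pos h, if_pos h.symm, mul_one]
    · rw [if_neg h, if_neg (fun h' => h h'.symm), mul_zero]
  · by_cases h : i = k
    · rw [if_pos h, if_pos h.symm, mul_one]
    · rw [if_neg h, if_neg (fun h' => h h'.symm), mul_zero]

/-- isometries agreeing on the standard basis are equal -/
theorem isom_ext_basis {g h : OG m F}
    (he : ∀ j : Fin m, lin (plusForm m F) g (eV j) = lin (plusForm m F) h (eV j))
    (hf : ∀ j : Fin m, lin (plusForm m F) g (fV j) = lin (plusForm m F) h (fV j)) : g = h := by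
  apply isom_ext
  have : lin (plusForm m F) g = lin (plusForm m F) h := by
    apply LinearMap.pi_ext'
    intro k
    apply LinearMap.ext_ring
    rw [LinearMap.comp_apply, LinearMap.comp_apply, LinearMap.single_apply]
    rcases k with j | j
    · exact he j
    · exact hf j
  intro x
  rw [this]

end Cfsg.Agent.Helper40.OPlus
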